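import Groth.Agent.FlatCx.Chain
import Mathlib.RingTheory.Flat.CategoryTheory
import Mathlib.RingTheory.Flat.FaithfullyFlat.Basic

/-!
`T_p ≅ N ⊗ -` when it preserves surjections; vanishing from the residue field.
-/

universe u

open CategoryTheory CategoryTheory.Limits MonoidalCategory TensorProduct Function

namespace Groth.Agent.FlatCx

variable {A : Type u} [CommRing A]

section

variable (P : ChainComplex (ModuleCat.{u} A) ℤ) (p : ℤ)

theorem preservesEpi_of_iso_tensorLeft {N : ModuleCat.{u} A}
    (e : CohIII.TFun P p ≅ tensorLeft N) : (CohIII.TFun P p).PreservesEpimorphisms := by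
  have : (tensorLeft N).PreservesEpimorphisms :=
    ⟨fun g _ => (ModuleCat.epi_iff_surjective _).mpr
      (LinearMap.lTensor_surjective _ ((ModuleCat.epi_iff_surjective g).mp inferInstance))⟩
  exact Functor.PreservesEpimorphisms.of_iso e.symm

theorem preservesMono_of_iso_tensorLeft {N : ModuleCat.{u} A} [Module.Flat A N]
    (e : CohIII.TFun P p ≅ tensorLeft N) : (CohIII.TFun P p).PreservesMonomorphisms := by
  have : (tensorLeft N).PreservesMonomorphisms :=
    ⟨fun g _ => (ModuleCat.mono_iff_injective _).mpr
      (Module.Flat.lTensor_preserves_injective_linearMap _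
        ((ModuleCat.mono_iff_injective g).mp inferInstance))⟩
  exact Functor.PreservesMonomorphisms.of_iso e.symm

variable (hP : ∀ i, Module.Flat A (P.X i)) (h : (CohIII.TFun P p).PreservesEpimorphisms)

include hP h in
theorem flat_opcycles_pred : Module.Flat A (P.opcycles (p - 1)) :=
  have := hP (p - 1)
  (epi_iff P p (p - 1) (by omega)).mp h

include hP h in
theorem range_kerIncl (M : ModuleCat.{u} A) :
    LinearMap.range ((LinearMap.ker (bdry P p (p - 1))).subtype.rTensor M) =
      LinearMap.ker ((bdry P p (p - 1)).rTensor M) := by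
  have := hP (p - 1)
  have := flat_opcycles_pred P p hP h
  exact (LinearMap.exact_iff.mp (exact_ker_rTensor (exact_bdry P p (p - 1) (by omega))
    (pOpcycles_surjective P _) M)).symm

include hP h in
theorem kerIncl_injective (M : ModuleCat.{u} A) :
    Injective ((LinearMap.ker (bdry P p (p - 1))).subtype.rTensor M) := by
  have := hP (p - 1)
  have := flat_opcycles_pred P p hP h
  exact ker_rTensor_subtype_injective (exact_bdry P p (p - 1) (by omega)) (pOpcycles_surjective P _) M

/-- `T_p(M) ≅ ker(bdry) ⊗ M` when `T_p` preserves surjections. -/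
noncomputable def tensorEquiv (M : ModuleCat.{u} A) :
    ↥(CohIII.T P p M) ≃ₗ[A] ↥(LinearMap.ker (bdry P p (p - 1))) ⊗[A] M :=
  incEquiv P p (p - 1) (down_next (by omega)) M ≪≫ₗ
    (LinearEquiv.ofEq _ _ (range_kerIncl P p hP h M).symm ≪≫ₗ
      (LinearEquiv.ofInjective _ (kerIncl_injective P p hP h M)).symm)

theorem kerIncl_tensorEquiv (M : ModuleCat.{u} A) (x : ↥(CohIII.T P p M)) :
    (LinearMap.ker (bdry P p (p - 1))).subtype.rTensor M (tensorEquiv P p hP h M x) = inc P p M x := by
  simp [tensorEquiv, incEquiv, LinearEquiv.ofInjective_symm_apply]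

/-- `T_p ≅ H_p(P) ⊗ -` when it preserves surjections. -/
noncomputable def tensorLeftIso :
    CohIII.TFun P p ≅ tensorLeft (ModuleCat.of A ↥(LinearMap.ker (bdry P p (p - 1)))) :=
  NatIso.ofComponents (fun M => (tensorEquiv P p hP h M).toModuleIso) fun {M N} g => by
    ext x
    refine kerIncl_injective P p hP h N ?_
    refine (kerIncl_tensorEquiv P p hP h N _).trans ?_
    refine (inc_natural P p g x).trans ?_
    refine (congrArg _ (kerIncl_tensorEquiv P p hP h M x).symm).trans ?_
    exact (rTensor_lTensor_comm g.hom _ _).symm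

end

theorem isZero_of_residueField [IsNoetherianRing A] [IsLocalRing A]
    (P : ChainComplex (ModuleCat.{u} A) ℤ)
    (hP : ∀ i, Module.Finite A (P.X i) ∧ Module.Flat A (P.X i)) (p q : ℤ) (hpq : q + 1 = p)
    (hk : IsZero ((CohIII.TFun P p).obj (ModuleCat.of A (IsLocalRing.ResidueField A))))
    (M : ModuleCat.{u} A) : IsZero ((CohIII.TFun P p).obj M) := by
  have := (hP p).1; have := (hP q).1; have := (hP q).2
  have : Module.Free A (P.X q) := Module.free_of_flat_of_isLocalRing
  have hk' := (isZero_iff_injective P p q (down_next hpq) _).mp hk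
  obtain ⟨l, hl⟩ := (IsLocalRing.split_injective_iff_lTensor_residueField_injective
    (bdry P p q)).mpr ((LinearMap.lTensor_inj_iff_rTensor_inj _ _).mpr hk')
  refine (isZero_iff_injective P p q (down_next hpq) M).mpr
    (Function.LeftInverse.injective (g := l.rTensor M) fun x => ?_)
  rw [← LinearMap.comp_apply, ← LinearMap.rTensor_comp, hl, LinearMap.rTensor_id, LinearMap.id_apply]

end Groth.Agent.FlatCx
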