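import Groth.Agent.FlatCx.Fib
import Groth.Agent.FlatCx.Funct
import Mathlib.RingTheory.Flat.Localization
import Mathlib.RingTheory.Spectrum.Prime.Noetherian

/-!
Semicontinuity consequences for `dRank`, and flatness from constant fibre dimension.
-/

universe u

open TensorProduct Function CategoryTheory CategoryTheory.Limits Topology

namespace Groth.Agent.FlatCx

variable {A : Type u} [CommRing A]

theorem eventually_eq_of_add {X : Type u} [TopologicalSpace X] {a b : X → ℕ} {z : X}
    (ha : ∀ᶠ x in 𝓝 z, a x ≤ a z) (hb : ∀ᶠ x in 𝓝 z, b x ≤ b z)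
    (h : ∀ᶠ x in 𝓝 z, a x + b x = a z + b z) :
    (∀ᶠ x in 𝓝 z, a x = a z) ∧ ∀ᶠ x in 𝓝 z, b x = b z := by
  constructor <;>
  · filter_upwards [ha, hb, h] with x h1 h2 h3
    omega

theorem fib_bc {B : Type u} [CommRing B] [Algebra A B] (M : Type u) [AddCommGroup M] [Module A M]
    (x' : PrimeSpectrum B) :
    fib (B ⊗[A] M) x' = fib M (PrimeSpectrum.comap (algebraMap A B) x') := by
  set x := PrimeSpectrum.comap (algebraMap A B) x'
  let K := x.asIdeal.ResidueField
  let L := x'.asIdeal.ResidueField
  let : Algebra K L := (Ideal.ResidueField.map x.asIdeal x'.asIdeal (algebraMap A B) rfl).toAlgebra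
  have : IsScalarTower A K L := .of_algebraMap_eq fun a => by
    rw [RingHom.algebraMap_toAlgebra, Ideal.ResidueField.map_algebraMap,
      ← IsScalarTower.algebraMap_apply]
  rw [← fib_eq_finrank L M x]
  exact (AlgebraTensorModule.cancelBaseChange A B L L M).finrank_eq

section Global

variable [IsReduced A] (M : Type u) [AddCommGroup M] [Module A M] [Module.Finite A M]

/-- Over a reduced ring, fibre dimension constant along specializations forces flatness. -/
theorem flat_of_fib_eq_of_le (h : ∀ x y : PrimeSpectrum A, y ≤ x → fib M y = fib M x) :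
    Module.Flat A M := by
  refine Module.flat_of_localized_maximal M fun P hP => ?_
  let B := Localization.AtPrime P
  have : IsReduced B := inferInstance
  have hfree : Module.Free B (B ⊗[A] M) := by
    refine free_of_fib_eq_minimalPrimes _ fun q _ => ?_
    rw [fib_bc, fib_bc]
    exact h _ _ (Ideal.comap_mono (IsLocalRing.le_maximalIdeal q.2.ne_top))
  have : Module.Flat A (B ⊗[A] M) := Module.Flat.trans A B (B ⊗[A] M)
  exact Module.Flat.of_linearEquiv ((LocalizedModule.equivTensorProduct P.primeCompl M).restrictScalars A)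

theorem flat_of_isLocallyConstant_fib (h : IsLocallyConstant (fib (A := A) M)) : Module.Flat A M :=
  flat_of_fib_eq_of_le M fun x y hyx =>
    h.apply_eq_of_isPreconnected (isPreconnected_singleton.closure) (s := closure {y})
      (subset_closure rfl)
      (specializes_iff_mem_closure.mp ((PrimeSpectrum.le_iff_specializes _ _).mp hyx))

end Global

section Chain

variable (P : ChainComplex (ModuleCat.{u} A) ℤ) (p q : ℤ) (hpq : q + 1 = p)

include hpq in
theorem dRank_add' [Module.Finite A (P.X p)] [Module.Finite A (P.X q)] (x : PrimeSpectrum A) :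
    CohIII.dRank P p x + fib (P.X q) x = fib (P.opcycles p) x + fib (P.opcycles q) x :=
  dRank_add P p q (down_next hpq) (down_prev hpq) x

theorem eventually_const_fib_X [IsNoetherianRing A] (i : ℤ) [Module.Finite A (P.X i)]
    [Module.Flat A (P.X i)] (z : PrimeSpectrum A) : ∀ᶠ x in 𝓝 z, fib (P.X i) x = fib (P.X i) z :=
  have := Module.finitePresentation_of_finite A (P.X i)
  (IsLocallyConstant.iff_eventually_eq _).mp (isLocallyConstant_fib (A := A) (P.X i)) z

include hpq in
theorem dRank_le_eventually [IsNoetherianRing A] [Module.Finite A (P.X p)] [Module.Finite A (P.X q)]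
    [Module.Flat A (P.X q)] (z : PrimeSpectrum A) :
    ∀ᶠ x in 𝓝 z, CohIII.dRank P p x ≤ CohIII.dRank P p z := by
  filter_upwards [eventually_const_fib_X P q z, fib_le_eventually (P.opcycles p) z,
    fib_le_eventually (P.opcycles q) z] with x h1 h2 h3
  have := dRank_add' P p q hpq x
  have := dRank_add' P p q hpq z
  omega

include hpq in
theorem eventually_const_fib_opcycles [IsNoetherianRing A] [Module.Finite A (P.X p)]
    [Module.Finite A (P.X q)] [Module.Flat A (P.X q)] (z : PrimeSpectrum A)
    (h : ∀ᶠ x in 𝓝 z, CohIII.dRank P p x = CohIII.dRank P p z) :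
    (∀ᶠ x in 𝓝 z, fib (P.opcycles p) x = fib (P.opcycles p) z) ∧
      ∀ᶠ x in 𝓝 z, fib (P.opcycles q) x = fib (P.opcycles q) z := by
  refine eventually_eq_of_add (fib_le_eventually (P.opcycles p) z) (fib_le_eventually (P.opcycles q) z) ?_
  filter_upwards [eventually_const_fib_X P q z, h] with x h1 h2
  have := dRank_add' P p q hpq x
  have := dRank_add' P p q hpq z
  omega

end Chain

end Groth.Agent.FlatCx
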