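import Groth.Agent.FlatCx.Fib
import Mathlib.RingTheory.Flat.TorsionFree

/-!
Flat base change of homology, and the case of Dedekind domains.
-/

universe u

open CategoryTheory CategoryTheory.Limits TensorProduct Function

namespace Groth.Agent.FlatCx

variable {A : Type u} [CommRing A]

section FlatBC

variable {ι : Type} {c : ComplexShape ι} (P : HomologicalComplex (ModuleCat.{u} A) c) (p : ι)
  (B : Type u) [CommRing B] [Algebra A B] [Module.Flat A B]

/-- `H_p(P_B) ≅ B ⊗ H_p(P)` for flat `B`. -/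
noncomputable def bcHomologyFlatEquiv :
    ↥((CohIII.bcCx (algebraMap A B) P).homology p) ≃ₗ[B] B ⊗[A] ↥(P.homology p) :=
  bcHomEquiv B P p (c.next p) rfl ≪≫ₗ (LinearMap.tensorKerEquiv B B (bdry P p (c.next p))).symm ≪≫ₗ
    ((homEquivKer P p (c.next p) rfl).symm.baseChange A B _ _)

end FlatBC

section Dedekind

variable [IsDedekindDomain A]

theorem flat_iff_smul (M : Type u) [AddCommGroup M] [Module A M] :
    Module.Flat A M ↔ ∀ (a : A) (x : M), a ≠ 0 → a • x = 0 → x = 0 := by
  rw [IsDedekindDomain.flat_iff_torsion_eq_bot, Submodule.eq_bot_iff]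
  constructor
  · intro h a x ha hx
    exact h x ⟨⟨a, mem_nonZeroDivisors_of_ne_zero ha⟩, hx⟩
  · rintro h x ⟨⟨a, ha⟩, hx⟩
    exact h a x (nonZeroDivisors.ne_zero ha) hx

theorem flat_of_ker {C F : Type u} [AddCommGroup C] [Module A C] [AddCommGroup F] [Module A F]
    [Module.Flat A F] (f : C →ₗ[A] F) [Module.Flat A (LinearMap.ker f)] : Module.Flat A C := by
  rw [flat_iff_smul]
  intro a x ha hx
  have h1 : f x = 0 := (flat_iff_smul F).mp inferInstance a (f x) ha (by rw [← map_smul, hx, map_zero])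
  exact congrArg Subtype.val
    ((flat_iff_smul (LinearMap.ker f)).mp inferInstance a ⟨x, h1⟩ ha (Subtype.ext hx))

theorem flat_opcycles_iff (P : ChainComplex (ModuleCat.{u} A) ℤ) (p q : ℤ) (hpq : q + 1 = p)
    [Module.Flat A (P.X q)] : Module.Flat A (P.opcycles p) ↔ Module.Flat A (P.homology p) := by
  rw [Module.Flat.equiv_iff (homEquivKer P p q (down_next hpq))]
  refine ⟨fun _ => ?_, fun _ => flat_of_ker (bdry P p q)⟩
  rw [flat_iff_smul]
  intro a x ha hx
  exact Subtype.ext ((flat_iff_smul (P.opcycles p)).mp inferInstance a x ha (congrArg Subtype.val hx))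

end Dedekind

section DVR

variable [IsDomain A] [IsDiscreteValuationRing A] {C F Q : Type u} [AddCommGroup C] [Module A C]
  [AddCommGroup F] [Module A F] [AddCommGroup Q] [Module A Q] {f : C →ₗ[A] F} {π : F →ₗ[A] Q}

/-- Over a DVR, lifting from the residue field makes the cokernel flat. -/
theorem flat_of_lift_dvr [Module.Flat A F] (hex : Exact f π) (hπ : Surjective π)
    (h : ∀ y : C ⊗[A] (A ⧸ IsLocalRing.maximalIdeal A), f.rTensor _ y = 0 →
      ∃ x : C ⊗[A] A, f.rTensor A x = 0 ∧
        (Submodule.mkQ (IsLocalRing.maximalIdeal A)).lTensor C x = y) :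
    Module.Flat A Q := by
  obtain ⟨ϖ, hϖ⟩ := IsDiscreteValuationRing.exists_irreducible A
  have hinj := lTensor_ideal_injective_of_lift hex hπ _ h
  have h1 : ∀ x : Q, ϖ • x = 0 → x = 0 := by
    intro x hx
    have hmem : ϖ ∈ IsLocalRing.maximalIdeal A := hϖ.maximalIdeal_eq ▸ Ideal.mem_span_singleton_self ϖ
    have h0 : x ⊗ₜ[A] (⟨ϖ, hmem⟩ : IsLocalRing.maximalIdeal A) = 0 := by
      apply hinj
      rw [map_zero, LinearMap.lTensor_tmul, Submodule.subtype_apply]
      show x ⊗ₜ[A] ϖ = 0
      rw [← mul_one ϖ, ← smul_eq_mul, ← smul_tmul, hx, zero_tmul]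
    let g : A →ₗ[A] IsLocalRing.maximalIdeal A := LinearMap.toSpanSingleton A _ ⟨ϖ, hmem⟩
    have hg : Function.Bijective g := by
      constructor
      · intro a b hab
        have := congrArg Subtype.val hab
        simp only [g, LinearMap.toSpanSingleton_apply, SetLike.val_smul, smul_eq_mul] at this
        exact mul_right_cancel₀ hϖ.ne_zero this
      · rintro ⟨y, hy⟩
        rw [hϖ.maximalIdeal_eq, Ideal.mem_span_singleton'] at hy
        obtain ⟨a, ha⟩ := hy
        exact ⟨a, Subtype.ext ha⟩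
    have h2 := congrArg ((LinearEquiv.ofBijective g hg).symm.toLinearMap.lTensor Q) h0
    rw [map_zero, LinearMap.lTensor_tmul] at h2
    have h3 : (LinearEquiv.ofBijective g hg).symm (⟨ϖ, hmem⟩ : IsLocalRing.maximalIdeal A) = 1 := by
      apply (LinearEquiv.ofBijective g hg).injective
      rw [LinearEquiv.apply_symm_apply, LinearEquiv.ofBijective_apply]
      simp [g]
    rw [LinearEquiv.coe_coe, h3] at h2
    simpa using congrArg (TensorProduct.rid A Q) h2
  rw [flat_iff_smul]
  intro a x ha hx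
  obtain ⟨n, u, rfl⟩ := IsDiscreteValuationRing.eq_unit_mul_pow_irreducible ha hϖ
  rw [mul_smul, ← Units.smul_def, smul_eq_zero_iff_eq] at hx
  clear ha
  induction n with
  | zero => simpa using hx
  | succ n ih =>
    refine ih (h1 _ ?_)
    rwa [smul_smul, ← pow_succ']

end DVR

end Groth.Agent.FlatCx
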