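import Groth.Agent.FlatCx.Basic
import Mathlib.RingTheory.LocalRing.ResidueField.Basic
import Mathlib.RingTheory.Flat.Equalizer
import Mathlib.LinearAlgebra.TensorProduct.Tower
import Mathlib.RingTheory.Noetherian.Basic
import Mathlib.Algebra.Module.FinitePresentation

/-!
Chain complexes of flat modules: criteria for exactness of `M ↦ H_p(P ⊗ M)` and base change.
-/

universe u

open CategoryTheory CategoryTheory.Limits MonoidalCategory TensorProduct Function

namespace Groth.Agent.FlatCx

theorem down_next {p q : ℤ} (h : q + 1 = p) : (ComplexShape.down ℤ).next p = q :=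
  (ComplexShape.down ℤ).next_eq' h

theorem down_prev {p q : ℤ} (h : q + 1 = p) : (ComplexShape.down ℤ).prev q = p :=
  (ComplexShape.down ℤ).prev_eq' h

variable {A : Type u} [CommRing A]

section

variable {ι : Type} {c : ComplexShape ι} (P : HomologicalComplex (ModuleCat.{u} A) c) (p : ι)

/-- `H_p(P) → coker(P_{p+1} → P_p)`. -/
noncomputable abbrev hι : ↥(P.homology p) →ₗ[A] ↥(P.opcycles p) := (P.homologyι p).hom

theorem hι_injective : Injective (hι P p) :=
  (ModuleCat.mono_iff_injective _).mp inferInstance

theorem range_hι (q : ι) (hq : c.next p = q) :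
    LinearMap.range (hι P p) = LinearMap.ker (bdry P p q) :=
  (ShortComplex.exact_of_f_is_kernel (ShortComplex.mk _ _ (P.homologyι_comp_fromOpcycles p q))
    (P.homologyIsKernel p q hq)).moduleCat_range_eq_ker

/-- `H_p(P) ≅ ker (bdry)`. -/
noncomputable def homEquivKer (q : ι) (hq : c.next p = q) :
    ↥(P.homology p) ≃ₗ[A] LinearMap.ker (bdry P p q) :=
  LinearEquiv.ofInjective _ (hι_injective P p) ≪≫ₗ LinearEquiv.ofEq _ _ (range_hι P p q hq)

/-- `T_p(A) → coker(P_{p+1} → P_p)`. -/
noncomputable def incA : ↥(CohIII.T P p (ModuleCat.of A A)) →ₗ[A] ↥(P.opcycles p) :=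
  (TensorProduct.rid A _).toLinearMap ∘ₗ inc P p (ModuleCat.of A A)

theorem incA_injective : Injective (incA P p) :=
  (TensorProduct.rid A _).injective.comp (inc_injective P p (ModuleCat.of A A))

theorem range_incA (q : ι) (hq : c.next p = q) :
    LinearMap.range (incA P p) = LinearMap.ker (bdry P p q) := by
  have h1 : bdry P p q ∘ₗ (TensorProduct.rid A _).toLinearMap =
      (TensorProduct.rid A _).toLinearMap ∘ₗ (bdry P p q).rTensor A := by
    ext; simp
  ext x
  constructor
  · rintro ⟨t, rfl⟩
    refine (LinearMap.congr_fun h1 (inc P p (ModuleCat.of A A) t)).trans ?_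
    exact (congrArg (TensorProduct.rid A _) (bdry_inc P p q hq _ t)).trans (map_zero _)
  · intro hx
    obtain ⟨t, ht⟩ := exists_inc_eq P p q hq (ModuleCat.of A A) ((TensorProduct.rid A _).symm x)
      (by simp [LinearMap.mem_ker.mp hx])
    exact ⟨t, (congrArg (TensorProduct.rid A _) ht).trans (LinearEquiv.apply_symm_apply _ _)⟩

/-- `T_p(A) ≅ ker (bdry)`. -/
noncomputable def TAEquivKer (q : ι) (hq : c.next p = q) :
    ↥(CohIII.T P p (ModuleCat.of A A)) ≃ₗ[A] LinearMap.ker (bdry P p q) :=
  LinearEquiv.ofInjective _ (incA_injective P p) ≪≫ₗ LinearEquiv.ofEq _ _ (range_incA P p q hq)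

/-- `T_p(A) ≅ H_p(P)`. -/
noncomputable def TAEquiv : ↥(CohIII.T P p (ModuleCat.of A A)) ≃ₗ[A] ↥(P.homology p) :=
  TAEquivKer P p (c.next p) rfl ≪≫ₗ (homEquivKer P p (c.next p) rfl).symm

instance finite_opcycles [Module.Finite A (P.X p)] : Module.Finite A (P.opcycles p) :=
  Module.Finite.of_surjective (P.pOpcycles p).hom (pOpcycles_surjective P p)

theorem finite_homology [IsNoetherianRing A] [Module.Finite A (P.X p)] :
    Module.Finite A (P.homology p) :=
  Module.Finite.of_injective (hι P p) (hι_injective P p)

theorem isZero_iff_injective (q : ι) (hq : c.next p = q) (M : ModuleCat.{u} A) :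
    IsZero (CohIII.T P p M) ↔ Injective ((bdry P p q).rTensor M) := by
  rw [ModuleCat.isZero_iff_subsingleton, ← LinearMap.ker_eq_bot, ← range_inc P p q hq M,
    LinearMap.range_eq_bot]
  constructor
  · intro h
    exact Subsingleton.elim _ _
  · intro h
    refine ⟨fun x y => inc_injective P p M ?_⟩
    rw [h]; rfl

/-- The canonical map `T_p(A) → T_p(k)` corresponds to reduction. -/
theorem exists_lift_of_surjective {M N : ModuleCat.{u} A} (g : M ⟶ N) (q : ι) (hq : c.next p = q)
    (h : Surjective ((CohIII.TFun P p).map g).hom)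
    (y : ↥(P.opcycles p) ⊗[A] N) (hy : (bdry P p q).rTensor N y = 0) :
    ∃ x, (bdry P p q).rTensor M x = 0 ∧ g.hom.lTensor _ x = y := by
  obtain ⟨t, rfl⟩ := exists_inc_eq P p q hq N y hy
  obtain ⟨s, rfl⟩ := h t
  exact ⟨inc P p M s, bdry_inc P p q hq M s, (inc_natural P p g s).symm⟩

end

section Chain

variable (P : ChainComplex (ModuleCat.{u} A) ℤ) (p q : ℤ) (hpq : q + 1 = p)

include hpq in
theorem mono_iff [Module.Flat A (P.X q)] :
    (CohIII.TFun P p).PreservesMonomorphisms ↔ Module.Flat A (P.opcycles p) :=
  preservesMono_iff_flat P p q (down_next hpq)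

include hpq in
theorem epi_iff [Module.Flat A (P.X q)] :
    (CohIII.TFun P p).PreservesEpimorphisms ↔ Module.Flat A (P.opcycles q) :=
  preservesEpi_iff_flat P p q (down_next hpq) (down_prev hpq)

include hpq in
theorem exact_bdry : Exact (bdry P p q) (P.pOpcycles q).hom :=
  exact_fromOpcycles_pOpcycles P p q (down_prev hpq)

include hpq in
theorem free_of_surjective_residueField [IsNoetherianRing A] [IsLocalRing A]
    [Module.Finite A (P.X q)] [Module.Flat A (P.X q)]
    (h : Surjective ((CohIII.TFun P p).map
      (ModuleCat.ofHom (Algebra.linearMap A (IsLocalRing.ResidueField A)))).hom) :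
    Module.Free A (P.opcycles q) :=
  have := Module.finitePresentation_of_finite A (P.opcycles q)
  free_of_lift_residueField (exact_bdry P p q hpq) (pOpcycles_surjective P q)
    fun y hy => exists_lift_of_surjective P p _ q (down_next hpq) h y hy

include hpq in
theorem free_of_surjective_residueField_artinian [IsArtinianRing A] [IsLocalRing A]
    [Module.Flat A (P.X q)]
    (h : Surjective ((CohIII.TFun P p).map
      (ModuleCat.ofHom (Algebra.linearMap A (IsLocalRing.ResidueField A)))).hom) :
    Module.Free A (P.opcycles q) :=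
  free_of_lift_residueField_artinian (exact_bdry P p q hpq) (pOpcycles_surjective P q)
    fun y hy => exists_lift_of_surjective P p _ q (down_next hpq) h y hy

theorem surjective_of_epi [IsLocalRing A]
    (h : (CohIII.TFun P p).PreservesEpimorphisms) :
    Surjective ((CohIII.TFun P p).map
      (ModuleCat.ofHom (Algebra.linearMap A (IsLocalRing.ResidueField A)))).hom := by
  have : Epi (ModuleCat.ofHom (Algebra.linearMap A (IsLocalRing.ResidueField A))) :=
    (ModuleCat.epi_iff_surjective _).mpr Ideal.Quotient.mk_surjective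
  exact (ModuleCat.epi_iff_surjective _).mp (h.preserves _)

include hpq in
theorem flat_opcycles_iff_flat_homology [Module.Flat A (P.X q)] [Module.Flat A (P.opcycles q)] :
    Module.Flat A (P.opcycles p) ↔ Module.Flat A (P.homology p) := by
  rw [Module.Flat.equiv_iff (homEquivKer P p q (down_next hpq))]
  exact ⟨fun _ => flat_ker (exact_bdry P p q hpq) (pOpcycles_surjective P q),
    fun _ => flat_of_flat_ker (exact_bdry P p q hpq) (pOpcycles_surjective P q)⟩

end Chain

section BaseChange

variable {B : Type u} [CommRing B] [Algebra A B]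

/-- The restriction of scalars of `B` along `A → B`, identified with `B`. -/
noncomputable def resEquiv :
    ↥((ModuleCat.restrictScalars (algebraMap A B)).obj (ModuleCat.of B B)) ≃ₗ[A] B :=
  { AddEquiv.refl B with
    map_smul' := fun a (b : B) => (Algebra.smul_def a b).symm }

/-- `extendScalars` is the base change. -/
noncomputable def extEquiv (M : ModuleCat.{u} A) :
    ↥((ModuleCat.extendScalars (algebraMap A B)).obj M) ≃ₗ[B] B ⊗[A] M :=
  { (TensorProduct.congr (resEquiv (A := A) (B := B)) (LinearEquiv.refl A ↥M)).toAddEquiv with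
    map_smul' := fun b x => by
      let e := TensorProduct.congr (resEquiv (A := A) (B := B)) (LinearEquiv.refl A ↥M)
      change e (b • x) = b • e x
      induction x using TensorProduct.induction_on with
      | zero =>
        exact (congrArg e (smul_zero b : b • (0 : ↥((ModuleCat.extendScalars (algebraMap A B)).obj M)) = 0)).trans
          ((map_zero e).trans ((congrArg (b • ·) (map_zero e)).trans (smul_zero b)).symm)
      | tmul s m => rfl
      | add x y hx hy =>
        have hs : ∀ u v : ↥((ModuleCat.extendScalars (algebraMap A B)).obj M),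
            b • (u + v) = b • u + b • v := smul_add b
        exact (congrArg e (hs x y)).trans ((map_add e _ _).trans
          ((congrArg₂ (· + ·) hx hy).trans
            ((congrArg (b • ·) (map_add e x y)).trans (smul_add b _ _)).symm)) }

theorem extEquiv_natural {M N : ModuleCat.{u} A} (g : M ⟶ N)
    (x : ↥((ModuleCat.extendScalars (algebraMap A B)).obj M)) :
    extEquiv N (((ModuleCat.extendScalars (algebraMap A B)).map g).hom x) =
      g.hom.baseChange B (extEquiv M x) := by
  induction x using TensorProduct.induction_on with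
  | zero =>
    refine (congrArg (extEquiv N) (map_zero _)).trans ((map_zero _).trans (Eq.symm ?_))
    exact (congrArg (g.hom.baseChange B) (map_zero (extEquiv (B := B) M))).trans (map_zero _)
  | tmul s m => rfl
  | add x y hx hy =>
    refine (congrArg (extEquiv N) (map_add _ _ _)).trans ((map_add _ _ _).trans ((congrArg₂ (· + ·) hx hy).trans (Eq.symm ?_)))
    exact (congrArg (g.hom.baseChange B) (map_add (extEquiv (B := B) M) x y)).trans (map_add _ _ _)

variable {ι : Type} {c : ComplexShape ι} (P : HomologicalComplex (ModuleCat.{u} A) c) (p : ι)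

/-- Opcycles commute with base change. -/
noncomputable def bcOpcyclesEquiv :
    ↥((CohIII.bcCx (algebraMap A B) P).opcycles p) ≃ₗ[B] B ⊗[A] ↥(P.opcycles p) :=
  (asIso (ocMap (ModuleCat.extendScalars (algebraMap A B)) P p)).toLinearEquiv ≪≫ₗ extEquiv _

variable (B) in
/-- `H_p(P_B) → B ⊗ coker(P_{p+1} → P_p)`. -/
noncomputable def bcInc :
    ↥((CohIII.bcCx (algebraMap A B) P).homology p) →ₗ[B] B ⊗[A] ↥(P.opcycles p) :=
  (extEquiv _).toLinearMap ∘ₗ (hInc (ModuleCat.extendScalars (algebraMap A B)) P p).hom

theorem bcInc_injective : Injective (bcInc B P p) :=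
  (extEquiv _).injective.comp (hInc_injective (ModuleCat.extendScalars (algebraMap A B)) P p)

theorem range_bcInc (q : ι) (hq : c.next p = q) :
    LinearMap.range (bcInc B P p) = LinearMap.ker ((bdry P p q).baseChange B) := by
  have h := range_hInc (ModuleCat.extendScalars (algebraMap A B)) P p q hq
  rw [bcInc, LinearMap.range_comp, h]
  ext y
  constructor
  · rintro ⟨x, hx, rfl⟩
    exact (extEquiv_natural _ x).symm.trans ((congrArg _ (LinearMap.mem_ker.mp hx)).trans (map_zero _))
  · intro hy
    refine ⟨(extEquiv _).symm y, ?_, LinearEquiv.apply_symm_apply _ _⟩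
    refine LinearMap.mem_ker.mpr ((extEquiv (B := B) (P.X q)).injective ?_)
    exact (extEquiv_natural _ _).trans
      ((congrArg ((bdry P p q).baseChange B) (LinearEquiv.apply_symm_apply _ y)).trans
        ((LinearMap.mem_ker.mp hy).trans (map_zero _).symm))

variable (B) in
/-- `H_p(P_B) ≅ ker (B ⊗ bdry)`. -/
noncomputable def bcHomEquiv (q : ι) (hq : c.next p = q) :
    ↥((CohIII.bcCx (algebraMap A B) P).homology p) ≃ₗ[B] LinearMap.ker ((bdry P p q).baseChange B) :=
  LinearEquiv.ofInjective _ (bcInc_injective P p) ≪≫ₗ LinearEquiv.ofEq _ _ (range_bcInc P p q hq)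

theorem flat_bcCx_X (hP : Module.Flat A (P.X p)) :
    Module.Flat B ((CohIII.bcCx (algebraMap A B) P).X p) :=
  Module.Flat.of_linearEquiv (extEquiv (B := B) (P.X p))

theorem flat_bc_opcycles_iff :
    Module.Flat B ((CohIII.bcCx (algebraMap A B) P).opcycles p) ↔
      Module.Flat B (B ⊗[A] ↥(P.opcycles p)) :=
  Module.Flat.equiv_iff (bcOpcyclesEquiv P p)

theorem finite_bcCx_X [Module.Finite A (P.X p)] :
    Module.Finite B ((CohIII.bcCx (algebraMap A B) P).X p) :=
  Module.Finite.equiv (extEquiv (B := B) (P.X p)).symm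

end BaseChange

section BaseChangeChain

variable {B : Type u} [CommRing B] [Algebra A B]
  (P : ChainComplex (ModuleCat.{u} A) ℤ) (hP : ∀ i, Module.Flat A (P.X i)) (p q : ℤ) (hpq : q + 1 = p)

include hP hpq in
theorem bc_mono_iff :
    (CohIII.TFun (CohIII.bcCx (algebraMap A B) P) p).PreservesMonomorphisms ↔
      Module.Flat B (B ⊗[A] ↥(P.opcycles p)) :=
  have : Module.Flat B ((CohIII.bcCx (algebraMap A B) P).X q) := flat_bcCx_X P q (hP q)
  (mono_iff (CohIII.bcCx (algebraMap A B) P) p q hpq).trans (flat_bc_opcycles_iff P p)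

include hP hpq in
theorem bc_epi_iff :
    (CohIII.TFun (CohIII.bcCx (algebraMap A B) P) p).PreservesEpimorphisms ↔
      Module.Flat B (B ⊗[A] ↥(P.opcycles q)) :=
  have : Module.Flat B ((CohIII.bcCx (algebraMap A B) P).X q) := flat_bcCx_X P q (hP q)
  (epi_iff (CohIII.bcCx (algebraMap A B) P) p q hpq).trans (flat_bc_opcycles_iff P q)

end BaseChangeChain

end Groth.Agent.FlatCx
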