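import Mathlib.RingTheory.Flat.Equalizer
import Mathlib.RingTheory.Flat.Tensor
import Mathlib.RingTheory.LocalRing.Module
import Mathlib.RingTheory.Flat.Localization
import Mathlib.RingTheory.Artinian.Ring
import Mathlib.LinearAlgebra.TensorProduct.RightExactness

/-!
Linear algebra behind EGA III 7.4: for `f : C → F` with `F` flat and cokernel `π : F → Q`,
the functor `M ↦ ker (f ⊗ M)`.
-/

universe u

open TensorProduct Function LinearMap

namespace Groth.Agent.FlatCx

variable {A : Type u} [CommRing A] {C F Q : Type u} [AddCommGroup C] [Module A C]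
  [AddCommGroup F] [Module A F] [AddCommGroup Q] [Module A Q]

/-- `M ↦ ker (f ⊗ M)` preserves surjections. -/
def SurjOn (f : C →ₗ[A] F) : Prop :=
  ∀ (M N : Type u) [AddCommGroup M] [Module A M] [AddCommGroup N] [Module A N] (g : M →ₗ[A] N),
    Surjective g → ∀ y : C ⊗[A] N, f.rTensor N y = 0 →
      ∃ x : C ⊗[A] M, f.rTensor M x = 0 ∧ g.lTensor C x = y

/-- `M ↦ ker (f ⊗ M)` preserves injections. -/
def InjOn (f : C →ₗ[A] F) : Prop :=
  ∀ (M N : Type u) [AddCommGroup M] [Module A M] [AddCommGroup N] [Module A N] (g : M →ₗ[A] N),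
    Injective g → ∀ x : C ⊗[A] M, f.rTensor M x = 0 → g.lTensor C x = 0 → x = 0

variable {f : C →ₗ[A] F} {π : F →ₗ[A] Q}

theorem rTensor_lTensor_comm {M N : Type u} [AddCommGroup M] [Module A M] [AddCommGroup N]
    [Module A N] (g : M →ₗ[A] N) (f : C →ₗ[A] F) (x : C ⊗[A] M) :
    f.rTensor N (g.lTensor C x) = g.lTensor F (f.rTensor M x) := by
  rw [← LinearMap.comp_apply, ← LinearMap.comp_apply, lTensor_comp_rTensor, rTensor_comp_lTensor]

theorem injOn_of_flat [Module.Flat A C] : InjOn f := fun M N _ _ _ _ g hg x _ h => by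
  have := Module.Flat.lTensor_preserves_injective_linearMap (M := C) g hg
  exact this (h.trans (map_zero _).symm)

theorem flat_of_injOn [Module.Flat A F] (h : InjOn f) : Module.Flat A C := by
  rw [Module.Flat.iff_lTensor_preserves_injective_linearMap]
  intro M N _ _ _ _ g hg
  rw [injective_iff_map_eq_zero]
  intro x hx
  refine h M N g hg x ?_ hx
  apply Module.Flat.lTensor_preserves_injective_linearMap (M := F) g hg
  rw [← rTensor_lTensor_comm, hx, map_zero, map_zero]

/-- If elements of `ker (f ⊗ A/I)` lift to `ker (f ⊗ A)`, then `Q ⊗ I → Q` is injective. -/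
theorem lTensor_ideal_injective_of_lift [Module.Flat A F] (hex : Exact f π) (hπ : Surjective π)
    (I : Ideal A)
    (h : ∀ y : C ⊗[A] (A ⧸ I), f.rTensor _ y = 0 →
      ∃ x : C ⊗[A] A, f.rTensor A x = 0 ∧ (Submodule.mkQ I).lTensor C x = y) :
    Injective (I.subtype.lTensor Q) := by
  rw [injective_iff_map_eq_zero]
  intro z hz
  obtain ⟨y, rfl⟩ := LinearMap.rTensor_surjective I hπ z
  have hexI : Exact (I.subtype) (Submodule.mkQ I) := LinearMap.exact_subtype_mkQ I
  -- the image in `F ⊗ A` comes from `C ⊗ A`
  obtain ⟨c, hc⟩ : ∃ c : C ⊗[A] A, f.rTensor A c = I.subtype.lTensor F y := by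
    apply (rTensor_exact A hex hπ (I.subtype.lTensor F y)).mp
    rw [rTensor_lTensor_comm]
    exact hz
  obtain ⟨x, hx, hxc⟩ := h ((Submodule.mkQ I).lTensor C c) (by
    rw [rTensor_lTensor_comm, hc, ← LinearMap.comp_apply, ← lTensor_comp,
      hexI.linearMap_comp_eq_zero, lTensor_zero, LinearMap.zero_apply])
  obtain ⟨z', hz'⟩ : ∃ z', I.subtype.lTensor C z' = c - x := by
    apply (lTensor_exact C hexI (Submodule.mkQ_surjective I) (c - x)).mp
    rw [map_sub, hxc, sub_self]
  have hy : f.rTensor I z' = y := by
    apply Module.Flat.lTensor_preserves_injective_linearMap (M := F) I.subtype I.injective_subtype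
    rw [← rTensor_lTensor_comm, hz', map_sub, hx, sub_zero, hc]
  rw [← hy, ← LinearMap.comp_apply, ← rTensor_comp, hex.linearMap_comp_eq_zero, rTensor_zero,
    LinearMap.zero_apply]

theorem flat_of_surjOn [Module.Flat A F] (hex : Exact f π) (hπ : Surjective π) (h : SurjOn f) :
    Module.Flat A Q :=
  Module.Flat.iff_lTensor_injective.mpr fun I _ =>
    lTensor_ideal_injective_of_lift hex hπ I (h A (A ⧸ I) _ (Submodule.mkQ_surjective I))

section FlatQuot

variable [Module.Flat A F] [Module.Flat A Q]

omit [Module.Flat A F] in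
/-- The range of `f` is flat and pure in `F` if the cokernel is flat. -/
theorem range_lTensor_injective (hex : Exact f π) (hπ : Surjective π)
    (M : Type u) [AddCommGroup M] [Module A M] :
    Injective ((LinearMap.range f).subtype.rTensor M) := by
  rw [← lTensor_inj_iff_rTensor_inj]
  exact LinearMap.lTensor_injective_of_exact_of_flat π hπ _ (LinearMap.range f).injective_subtype
    (LinearMap.exact_iff.mpr (by rw [Submodule.range_subtype]; exact LinearMap.exact_iff.mp hex)) M

theorem flat_range (hex : Exact f π) (hπ : Surjective π) : Module.Flat A (LinearMap.range f) := by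
  rw [Module.Flat.iff_lTensor_preserves_injective_linearMap]
  intro M N _ _ _ _ g hg
  rw [injective_iff_map_eq_zero]
  intro x hx
  apply range_lTensor_injective hex hπ M
  apply Module.Flat.lTensor_preserves_injective_linearMap (M := F) g hg
  rw [← rTensor_lTensor_comm, hx, map_zero, map_zero, map_zero]

omit [Module.Flat A F] in
theorem exact_ker_rTensor (hex : Exact f π) (hπ : Surjective π)
    (M : Type u) [AddCommGroup M] [Module A M] :
    Exact ((LinearMap.ker f).subtype.rTensor M) (f.rTensor M) := by
  have h1 : f = (LinearMap.range f).subtype ∘ₗ f.rangeRestrict := rfl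
  have h2 : Exact ((LinearMap.ker f).subtype.rTensor M) (f.rangeRestrict.rTensor M) := by
    refine rTensor_exact M ?_ f.surjective_rangeRestrict
    rw [LinearMap.exact_iff, Submodule.range_subtype, LinearMap.ker_rangeRestrict]
  intro y
  rw [h1, rTensor_comp, LinearMap.comp_apply,
    map_eq_zero_iff _ (range_lTensor_injective hex hπ M)]
  exact h2 y

theorem ker_rTensor_subtype_injective (hex : Exact f π) (hπ : Surjective π)
    (M : Type u) [AddCommGroup M] [Module A M] :
    Injective ((LinearMap.ker f).subtype.rTensor M) := by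
  have := flat_range hex hπ
  rw [← lTensor_inj_iff_rTensor_inj]
  exact LinearMap.lTensor_injective_of_exact_of_flat f.rangeRestrict f.surjective_rangeRestrict _
    (LinearMap.ker f).injective_subtype
    (LinearMap.exact_iff.mpr (by rw [Submodule.range_subtype, LinearMap.ker_rangeRestrict])) M

omit [Module.Flat A F] in
theorem surjOn_of_flat (hex : Exact f π) (hπ : Surjective π) : SurjOn f := by
  intro M N _ _ _ _ g hg y hy
  obtain ⟨h, rfl⟩ := (exact_ker_rTensor hex hπ N y).mp hy
  obtain ⟨h', rfl⟩ := LinearMap.lTensor_surjective _ hg h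
  refine ⟨(LinearMap.ker f).subtype.rTensor M h', (exact_ker_rTensor hex hπ M).apply_apply_eq_zero _, ?_⟩
  rw [← rTensor_lTensor_comm]

theorem flat_ker [Module.Flat A C] (hex : Exact f π) (hπ : Surjective π) :
    Module.Flat A (LinearMap.ker f) := by
  rw [Module.Flat.iff_lTensor_preserves_injective_linearMap]
  intro M N _ _ _ _ g hg
  rw [injective_iff_map_eq_zero]
  intro x hx
  apply ker_rTensor_subtype_injective hex hπ M
  apply Module.Flat.lTensor_preserves_injective_linearMap (M := C) g hg
  rw [← rTensor_lTensor_comm, hx, map_zero, map_zero, map_zero]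

theorem flat_of_flat_ker [Module.Flat A (LinearMap.ker f)] (hex : Exact f π) (hπ : Surjective π) :
    Module.Flat A C := by
  have := flat_range hex hπ
  rw [Module.Flat.iff_lTensor_preserves_injective_linearMap]
  intro M N _ _ _ _ g hg
  rw [injective_iff_map_eq_zero]
  intro x hx
  have h0 : f.rangeRestrict.rTensor M x = 0 := by
    apply Module.Flat.lTensor_preserves_injective_linearMap (M := LinearMap.range f) g hg
    rw [← rTensor_lTensor_comm, hx, map_zero, map_zero]
  obtain ⟨h, rfl⟩ := (rTensor_exact M (f := (LinearMap.ker f).subtype)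
    (LinearMap.exact_iff.mpr (by rw [Submodule.range_subtype, LinearMap.ker_rangeRestrict]))
    f.surjective_rangeRestrict x).mp h0
  rw [← rTensor_lTensor_comm] at hx
  rw [map_eq_zero_iff _ (ker_rTensor_subtype_injective hex hπ N)] at hx
  rw [map_eq_zero_iff _ (Module.Flat.lTensor_preserves_injective_linearMap
    (M := LinearMap.ker f) g hg)] at hx
  rw [hx, map_zero]

end FlatQuot

theorem surjOn_iff_flat [Module.Flat A F] (hex : Exact f π) (hπ : Surjective π) :
    SurjOn f ↔ Module.Flat A Q :=
  ⟨flat_of_surjOn hex hπ, fun _ => surjOn_of_flat hex hπ⟩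

theorem injOn_iff_flat [Module.Flat A F] : InjOn f ↔ Module.Flat A C :=
  ⟨flat_of_injOn, fun _ => injOn_of_flat⟩

theorem surjOn_of_forall_injective
    (h : ∀ (M : Type u) [AddCommGroup M] [Module A M], Injective (f.rTensor M)) : SurjOn f :=
  fun _ N _ _ _ _ _ _ y hy => ⟨0, map_zero _, by rw [h N (hy.trans (map_zero _).symm), map_zero]⟩

section Artinian

variable [IsLocalRing A] [IsArtinianRing A]

omit [IsLocalRing A] [IsArtinianRing A] in
theorem eq_top_of_nilpotent {M : Type u} [AddCommGroup M] [Module A M] {I : Ideal A}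
    (hI : IsNilpotent I) (N : Submodule A M) (h : ⊤ ≤ N ⊔ I • (⊤ : Submodule A M)) : N = ⊤ := by
  obtain ⟨n, hn⟩ := hI
  have : ∀ k : ℕ, ⊤ ≤ N ⊔ I ^ k • (⊤ : Submodule A M) := by
    intro k
    induction k with
    | zero => simp
    | succ k ih =>
      refine h.trans (sup_le le_sup_left ?_)
      refine (Submodule.smul_mono le_rfl ih).trans ?_
      rw [Submodule.smul_sup, ← Submodule.smul_assoc, smul_eq_mul, ← pow_succ']
      exact sup_le_sup_right Submodule.smul_le_right _
  simpa [hn] using this n

/-- Over an Artinian local ring, `m ⊗ Q → Q` injective implies `Q` free. -/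
theorem free_of_artinian (h : Injective ((IsLocalRing.maximalIdeal A).subtype.lTensor Q)) :
    Module.Free A Q := by
  classical
  set m := IsLocalRing.maximalIdeal A with hm
  have hnil : IsNilpotent m := by
    rw [hm, ← IsLocalRing.jacobson_eq_maximalIdeal ⊥ bot_ne_top]
    exact IsArtinianRing.isNilpotent_jacobson_bot
  let : Field (A ⧸ m) := Ideal.Quotient.field m
  let b := Module.Free.chooseBasis (A ⧸ m) (Q ⧸ m • (⊤ : Submodule A Q))
  set ι := Module.Free.ChooseBasisIndex (A ⧸ m) (Q ⧸ m • (⊤ : Submodule A Q))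
  let q : ι → Q := fun i => (Submodule.mkQ_surjective (m • (⊤ : Submodule A Q)) (b i)).choose
  have hq : ∀ i, Submodule.Quotient.mk (q i) = b i := fun i =>
    (Submodule.mkQ_surjective (m • (⊤ : Submodule A Q)) (b i)).choose_spec
  let p := Finsupp.linearCombination A q
  have hred : ∀ x : ι →₀ A, Submodule.Quotient.mk (p x) =
      Finsupp.linearCombination (A ⧸ m) b (x.mapRange (Ideal.Quotient.mk m) (map_zero _)) := by
    intro x
    simp only [p, Finsupp.linearCombination_apply]
    rw [Finsupp.sum_mapRange_index (by intro; rw [zero_smul]), Finsupp.sum, Finsupp.sum,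
      ← Submodule.mkQ_apply, map_sum]
    refine Finset.sum_congr rfl fun i _ => ?_
    rw [map_smul, Submodule.mkQ_apply, hq]
    rfl
  have hp : Surjective p := by
    rw [← LinearMap.range_eq_top]
    refine eq_top_of_nilpotent hnil _ fun x _ => ?_
    obtain ⟨y, hy⟩ : ∃ y : ι →₀ A ⧸ m, Finsupp.linearCombination (A ⧸ m) b y =
        Submodule.Quotient.mk x := ⟨_, b.linearCombination_repr _⟩
    obtain ⟨z, rfl⟩ := Finsupp.mapRange_surjective (Ideal.Quotient.mk m) (map_zero _)
      Ideal.Quotient.mk_surjective y
    rw [← hred] at hy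
    rw [Submodule.mem_sup]
    exact ⟨p z, ⟨z, rfl⟩, x - p z, (Submodule.Quotient.eq _).mp hy.symm, by abel⟩
  have hex : Exact (LinearMap.ker p).subtype p := LinearMap.exact_subtype_ker_map p
  have hR : LinearMap.ker p ≤ m • LinearMap.ker p := by
    intro x hx
    have h0 : x.mapRange (Ideal.Quotient.mk m) (map_zero _) = 0 := by
      apply b.linearIndependent
      rw [← hred, map_zero]
      rw [LinearMap.mem_ker] at hx
      rw [hx]
      rfl
    obtain ⟨y, hy⟩ : ∃ y : (ι →₀ A) ⊗[A] m, m.subtype.lTensor _ y = x ⊗ₜ[A] (1 : A) := by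
      refine ⟨x.sum fun i a => Finsupp.single i (1 : A) ⊗ₜ[A]
        (if ha : a ∈ m then (⟨a, ha⟩ : m) else 0), ?_⟩
      simp only [Finsupp.sum, map_sum, LinearMap.lTensor_tmul]
      conv_rhs => rw [← x.sum_single, Finsupp.sum, TensorProduct.sum_tmul]
      refine Finset.sum_congr rfl fun i _ => ?_
      have hi : x i ∈ m := Ideal.Quotient.eq_zero_iff_mem.mp
        (by simpa using DFunLike.congr_fun h0 i)
      rw [dif_pos hi, Submodule.subtype_apply]
      conv_rhs => rw [← Finsupp.smul_single_one, TensorProduct.smul_tmul, smul_eq_mul, mul_one]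
    have h1 : p.rTensor m y = 0 := by
      apply h
      rw [← rTensor_lTensor_comm, hy, rTensor_tmul, LinearMap.mem_ker.mp hx, zero_tmul, map_zero]
    obtain ⟨w, rfl⟩ := (rTensor_exact (M := LinearMap.ker p) (N := ι →₀ A) (P := Q) m hex hp y).mp h1
    have h2 := congrArg (TensorProduct.rid A (ι →₀ A)) hy
    simp only [rid_tmul, one_smul] at h2
    rw [← h2]
    clear h1 hy h2
    induction w using TensorProduct.induction_on with
    | zero => simp
    | tmul r a => simpa using Submodule.smul_mem_smul a.2 r.2
    | add a b ha hb => simpa only [map_add] using add_mem ha hb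
  have hker : LinearMap.ker p = ⊥ := by
    obtain ⟨n, hn⟩ := hnil
    have : ∀ k : ℕ, LinearMap.ker p ≤ m ^ k • LinearMap.ker p := by
      intro k
      induction k with
      | zero => simp
      | succ k ih =>
        refine ih.trans ((Submodule.smul_mono le_rfl hR).trans ?_)
        rw [← Submodule.smul_assoc, smul_eq_mul, ← pow_succ]
    simpa [hn] using this n
  exact Module.Free.of_equiv (LinearEquiv.ofBijective p ⟨LinearMap.ker_eq_bot.mp hker, hp⟩)

end Artinian

/-- Lifting from the residue field, finitely presented cokernel over a local ring. -/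
theorem free_of_lift_residueField [IsLocalRing A] [Module.FinitePresentation A Q] [Module.Flat A F]
    (hex : Exact f π) (hπ : Surjective π)
    (h : ∀ y : C ⊗[A] (A ⧸ IsLocalRing.maximalIdeal A), f.rTensor _ y = 0 →
      ∃ x : C ⊗[A] A, f.rTensor A x = 0 ∧
        (Submodule.mkQ (IsLocalRing.maximalIdeal A)).lTensor C x = y) :
    Module.Free A Q :=
  Module.free_of_maximalIdeal_rTensor_injective
    ((lTensor_inj_iff_rTensor_inj _ _).mp (lTensor_ideal_injective_of_lift hex hπ _ h))

/-- Lifting from the residue field over an Artinian local ring. -/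
theorem free_of_lift_residueField_artinian [IsLocalRing A] [IsArtinianRing A] [Module.Flat A F]
    (hex : Exact f π) (hπ : Surjective π)
    (h : ∀ y : C ⊗[A] (A ⧸ IsLocalRing.maximalIdeal A), f.rTensor _ y = 0 →
      ∃ x : C ⊗[A] A, f.rTensor A x = 0 ∧
        (Submodule.mkQ (IsLocalRing.maximalIdeal A)).lTensor C x = y) :
    Module.Free A Q :=
  free_of_artinian (lTensor_ideal_injective_of_lift hex hπ _ h)

end Groth.Agent.FlatCx
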