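import Groth.Prelude.Def_ega3
import Groth.Agent.FlatCx.Linear
import Mathlib.Algebra.Category.ModuleCat.Monoidal.Closed
import Mathlib.Algebra.Category.ModuleCat.EpiMono

/-!
`H_p(P ⊗ M) = ker (coker(P_{p+1} → P_p) ⊗ M → P_{p-1} ⊗ M)` for any complex `P` of modules.
-/

universe u

open CategoryTheory CategoryTheory.Limits MonoidalCategory TensorProduct Function

namespace Groth.Agent.FlatCx

section General

variable {A B : Type u} [CommRing A] [CommRing B] {ι : Type} {c : ComplexShape ι}

variable (G : ModuleCat.{u} A ⥤ ModuleCat.{u} B) [G.Additive]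
  (K : HomologicalComplex (ModuleCat.{u} A) c) (p : ι)

/-- The comparison `opcycles (G K) ⟶ G (opcycles K)`. -/
noncomputable def ocMap :
    ((G.mapHomologicalComplex c).obj K).opcycles p ⟶ G.obj (K.opcycles p) :=
  ((G.mapHomologicalComplex c).obj K).descOpcycles (G.map (K.pOpcycles p)) (c.prev p) rfl
    ((G.map_comp _ _).symm.trans ((congrArg G.map (K.d_pOpcycles _ _)).trans (G.map_zero _ _)))

@[reassoc]
theorem p_ocMap :
    ((G.mapHomologicalComplex c).obj K).pOpcycles p ≫ ocMap G K p = G.map (K.pOpcycles p) :=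
  HomologicalComplex.p_descOpcycles _ _ _ _ _

instance [PreservesFiniteColimits G] : IsIso (ocMap G K p) := by
  have h1 := ((G.mapHomologicalComplex c).obj K).opcyclesIsCokernel (c.prev p) p rfl
  have h2 := CokernelCofork.mapIsColimit _ (K.opcyclesIsCokernel (c.prev p) p rfl) G
  have e : ocMap G K p = (h1.coconePointUniqueUpToIso h2).hom := by
    rw [← cancel_epi (((G.mapHomologicalComplex c).obj K).pOpcycles p), p_ocMap]
    exact (h1.comp_coconePointUniqueUpToIso_hom h2 WalkingParallelPair.one).symm
  rw [e]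
  infer_instance

theorem ocMap_fromOpcycles (q : ι) :
    ocMap G K p ≫ G.map (K.fromOpcycles p q) =
      ((G.mapHomologicalComplex c).obj K).fromOpcycles p q := by
  rw [← cancel_epi (((G.mapHomologicalComplex c).obj K).pOpcycles p), p_ocMap_assoc]
  exact ((G.map_comp _ _).symm.trans (congrArg G.map (K.p_fromOpcycles p q))).trans
    (((G.mapHomologicalComplex c).obj K).p_fromOpcycles p q).symm

/-- `H_p (G K) ⟶ G (opcycles K)`. -/
noncomputable def hInc :
    ((G.mapHomologicalComplex c).obj K).homology p ⟶ G.obj (K.opcycles p) :=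
  ((G.mapHomologicalComplex c).obj K).homologyι p ≫ ocMap G K p

theorem hInc_injective [PreservesFiniteColimits G] : Injective (hInc G K p).hom := by
  rw [← ModuleCat.mono_iff_injective]
  unfold hInc
  infer_instance

theorem range_hInc [PreservesFiniteColimits G] (q : ι) (hq : c.next p = q) :
    LinearMap.range (hInc G K p).hom = LinearMap.ker (G.map (K.fromOpcycles p q)).hom := by
  let S := ShortComplex.mk (hInc G K p) (G.map (K.fromOpcycles p q))
    ((Category.assoc _ _ _).trans ((congrArg _ (ocMap_fromOpcycles G K p q)).trans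
      (HomologicalComplex.homologyι_comp_fromOpcycles _ p q)))
  let S' := ShortComplex.mk _ _ (((G.mapHomologicalComplex c).obj K).homologyι_comp_fromOpcycles p q)
  have hS' : S'.Exact := ShortComplex.exact_of_f_is_kernel _
    (((G.mapHomologicalComplex c).obj K).homologyIsKernel p q hq)
  let e : S' ≅ S := ShortComplex.isoMk (Iso.refl _) (asIso (ocMap G K p)) (Iso.refl _)
    (by simp [S, S', hInc]) (by
      simp only [S, S', asIso_hom, ocMap_fromOpcycles, Iso.refl_hom]
      exact (Category.comp_id _).symm)
  exact (ShortComplex.exact_iff_of_iso e |>.mp hS').moduleCat_range_eq_ker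

variable {G} {G' : ModuleCat.{u} A ⥤ ModuleCat.{u} B} [G'.Additive] (τ : G ⟶ G')

theorem hInc_natural :
    HomologicalComplex.homologyMap ((NatTrans.mapHomologicalComplex τ c).app K) p ≫ hInc G' K p =
      hInc G K p ≫ τ.app (K.opcycles p) := by
  simp only [hInc, Category.assoc, HomologicalComplex.homologyι_naturality_assoc]
  congr 1
  rw [← cancel_epi (((G.mapHomologicalComplex c).obj K).pOpcycles p),
    HomologicalComplex.p_opcyclesMap_assoc, p_ocMap, p_ocMap_assoc,
    NatTrans.mapHomologicalComplex_app_f]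
  exact (τ.naturality _).symm

omit [G.Additive] [G'.Additive] in
theorem pOpcycles_surjective : Surjective (K.pOpcycles p).hom := by
  rw [← ModuleCat.epi_iff_surjective]
  infer_instance

omit [G.Additive] [G'.Additive] in
theorem exact_d_pOpcycles (r : ι) (hr : c.prev p = r) :
    Exact (K.d r p).hom (K.pOpcycles p).hom := by
  have := (ShortComplex.exact_of_g_is_cokernel (ShortComplex.mk _ _ (K.d_pOpcycles r p))
    (K.opcyclesIsCokernel r p hr)).moduleCat_range_eq_ker
  exact LinearMap.exact_iff.mpr this.symm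

omit [G.Additive] [G'.Additive] in
/-- `P_p/B_p → P_q → P_q/B_q` is exact. -/
theorem exact_fromOpcycles_pOpcycles (q : ι) (hp : c.prev q = p) :
    Exact (K.fromOpcycles p q).hom (K.pOpcycles q).hom := by
  have h := exact_d_pOpcycles K q p hp
  rw [← HomologicalComplex.p_fromOpcycles, ModuleCat.hom_comp] at h
  rw [LinearMap.exact_iff] at h ⊢
  rw [h, LinearMap.range_comp, LinearMap.range_eq_top.mpr (pOpcycles_surjective K p),
    Submodule.map_top]

end General

section Tensor

instance preservesFiniteColimits_tensorRight {A : Type u} [CommRing A] (M : ModuleCat.{u} A) :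
    PreservesFiniteColimits (tensorRight M) :=
  haveI : PreservesColimitsOfSize.{0, 0} (tensorRight M) :=
    preservesColimits_of_natIso (BraidedCategory.tensorLeftIsoTensorRight M)
  PreservesColimitsOfSize.preservesFiniteColimits _

variable {A : Type u} [CommRing A] {ι : Type} {c : ComplexShape ι}
  (P : HomologicalComplex (ModuleCat.{u} A) c) (p : ι)

/-- The linear map `coker(P_{p+1} → P_p) → P_q`. -/
noncomputable abbrev bdry (q : ι) : ↥(P.opcycles p) →ₗ[A] ↥(P.X q) := (P.fromOpcycles p q).hom

/-- `H_p(P ⊗ M) → coker(P_{p+1} → P_p) ⊗ M`. -/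
noncomputable def inc (M : ModuleCat.{u} A) :
    ↥(CohIII.T P p M) →ₗ[A] ↥(P.opcycles p) ⊗[A] M :=
  (hInc (tensorRight M) P p).hom

theorem inc_injective (M : ModuleCat.{u} A) : Injective (inc P p M) :=
  hInc_injective (tensorRight M) P p

theorem range_inc (q : ι) (hq : c.next p = q) (M : ModuleCat.{u} A) :
    LinearMap.range (inc P p M) = LinearMap.ker ((bdry P p q).rTensor M) :=
  range_hInc (tensorRight M) P p q hq

theorem bdry_inc (q : ι) (hq : c.next p = q) (M : ModuleCat.{u} A) (x : ↥(CohIII.T P p M)) :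
    (bdry P p q).rTensor M (inc P p M x) = 0 :=
  LinearMap.mem_ker.mp (range_inc P p q hq M ▸ LinearMap.mem_range_self _ _)

theorem exists_inc_eq (q : ι) (hq : c.next p = q) (M : ModuleCat.{u} A)
    (y : ↥(P.opcycles p) ⊗[A] M) (hy : (bdry P p q).rTensor M y = 0) : ∃ x, inc P p M x = y :=
  LinearMap.mem_range.mp (range_inc P p q hq M ▸ LinearMap.mem_ker.mpr hy)

theorem inc_natural {M N : ModuleCat.{u} A} (g : M ⟶ N) (x : ↥(CohIII.T P p M)) :
    inc P p N (((CohIII.TFun P p).map g).hom x) = g.hom.lTensor _ (inc P p M x) :=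
  ConcreteCategory.congr_hom (hInc_natural P p ((tensoringRight (ModuleCat.{u} A)).map g)) x

/-- The isomorphism `T_p(M) ≅ ker (bdry ⊗ M)`. -/
noncomputable def incEquiv (q : ι) (hq : c.next p = q) (M : ModuleCat.{u} A) :
    ↥(CohIII.T P p M) ≃ₗ[A] LinearMap.ker ((bdry P p q).rTensor M) :=
  LinearEquiv.ofInjective _ (inc_injective P p M) ≪≫ₗ LinearEquiv.ofEq _ _ (range_inc P p q hq M)

variable (q : ι) (hq : c.next p = q)

include hq in
theorem preservesEpi_iff_surjOn :
    (CohIII.TFun P p).PreservesEpimorphisms ↔ SurjOn (bdry P p q) := by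
  constructor
  · intro h M N _ _ _ _ g hg y hy
    have : Epi (ModuleCat.ofHom g) := (ModuleCat.epi_iff_surjective _).mpr hg
    obtain ⟨t, rfl⟩ := exists_inc_eq P p q hq (ModuleCat.of A N) y hy
    obtain ⟨s, rfl⟩ := (ModuleCat.epi_iff_surjective _).mp
      (h.preserves (ModuleCat.ofHom g)) t
    exact ⟨inc P p _ s, bdry_inc P p q hq _ s, (inc_natural P p (ModuleCat.ofHom g) s).symm⟩
  · intro h
    constructor
    intro M N g _
    rw [ModuleCat.epi_iff_surjective]
    intro t
    obtain ⟨x, hx, hxt⟩ := h M N g.hom ((ModuleCat.epi_iff_surjective _).mp ‹_›) _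
      (bdry_inc P p q hq N t)
    obtain ⟨s, rfl⟩ := exists_inc_eq P p q hq M x hx
    exact ⟨s, inc_injective P p N ((inc_natural P p g s).trans hxt)⟩

include hq in
theorem preservesMono_iff_injOn :
    (CohIII.TFun P p).PreservesMonomorphisms ↔ InjOn (bdry P p q) := by
  constructor
  · intro h M N _ _ _ _ g hg x hx h0
    have : Mono (ModuleCat.ofHom g) := (ModuleCat.mono_iff_injective _).mpr hg
    obtain ⟨s, rfl⟩ := exists_inc_eq P p q hq (ModuleCat.of A M) x hx
    have := (ModuleCat.mono_iff_injective _).mp (h.preserves (ModuleCat.ofHom g))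
    have hs : ((CohIII.TFun P p).map (ModuleCat.ofHom g)).hom s = 0 :=
      inc_injective P p _ ((inc_natural P p (ModuleCat.ofHom g) s).trans (h0.trans (map_zero _).symm))
    exact (congrArg _ (this (hs.trans (map_zero _).symm))).trans (map_zero _)
  · intro h
    constructor
    intro M N g _
    rw [ModuleCat.mono_iff_injective, injective_iff_map_eq_zero]
    intro s hs
    refine inc_injective P p M (Eq.trans ?_ (map_zero _).symm)
    exact h M N g.hom ((ModuleCat.mono_iff_injective _).mp ‹_›) _ (bdry_inc P p q hq M s)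
      ((inc_natural P p g s).symm.trans ((congrArg _ hs).trans (map_zero _)))

include hq in
theorem preservesMono_iff_flat [Module.Flat A (P.X q)] :
    (CohIII.TFun P p).PreservesMonomorphisms ↔ Module.Flat A (P.opcycles p) :=
  (preservesMono_iff_injOn P p q hq).trans injOn_iff_flat

include hq in
theorem preservesEpi_iff_flat (hp : c.prev q = p) [Module.Flat A (P.X q)] :
    (CohIII.TFun P p).PreservesEpimorphisms ↔ Module.Flat A (P.opcycles q) :=
  (preservesEpi_iff_surjOn P p q hq).trans
    (surjOn_iff_flat (exact_fromOpcycles_pOpcycles P p q hp) (pOpcycles_surjective P q))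

end Tensor

end Groth.Agent.FlatCx
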