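import Groth.Agent.FlatCx.Chain
import Mathlib.Algebra.Homology.HomologicalComplexAbelian
import Mathlib.Algebra.Homology.HomologySequence
import Mathlib.RingTheory.Noetherian.Basic
import Mathlib.LinearAlgebra.Finsupp.Pi

/-!
The long exact sequence of `M ↦ H_p(P ⊗ M)` and finiteness.
-/

universe u

open CategoryTheory CategoryTheory.Limits MonoidalCategory TensorProduct Function

namespace Groth.Agent.FlatCx

variable {A : Type u} [CommRing A]

section General

variable {ι : Type} {c : ComplexShape ι} (P : HomologicalComplex (ModuleCat.{u} A) c)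
  (hP : ∀ i, Module.Flat A (P.X i)) (S : ShortComplex (ModuleCat.{u} A)) (hS : S.ShortExact)

theorem tensorMap_comp_zero : CohIII.tensorMap P S.f ≫ CohIII.tensorMap P S.g = 0 := by
  refine HomologicalComplex.hom_ext _ _ fun i => ?_
  refine ModuleCat.hom_ext ?_
  show (S.g.hom.lTensor _) ∘ₗ (S.f.hom.lTensor (P.X i)) = 0
  rw [← LinearMap.lTensor_comp, ← ModuleCat.hom_comp, S.zero, ModuleCat.hom_zero, LinearMap.lTensor_zero]

/-- `P ⊗ M' → P ⊗ M → P ⊗ M''`. -/
noncomputable def tensorSES : ShortComplex (HomologicalComplex (ModuleCat.{u} A) c) :=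
  ShortComplex.mk (CohIII.tensorMap P S.f) (CohIII.tensorMap P S.g) (tensorMap_comp_zero P S)

include hP hS in
theorem tensorSES_shortExact : (tensorSES P S).ShortExact := by
  refine HomologicalComplex.shortExact_of_degreewise_shortExact _ fun i => ?_
  have := hP i
  refine ModuleCat.shortComplex_shortExact _ ?_ ?_ ?_
  · exact Module.Flat.lTensor_exact (P.X i)
      ((ShortComplex.ShortExact.moduleCat_exact_iff_function_exact S).mp hS.exact)
  · exact Module.Flat.lTensor_preserves_injective_linearMap S.f.hom hS.moduleCat_injective_f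
  · exact LinearMap.lTensor_surjective (P.X i) ((ModuleCat.epi_iff_surjective S.g).mp hS.epi_g)

include hP hS in
/-- `T_p` is half exact. -/
theorem half_exact (p : ι) :
    Exact ((CohIII.TFun P p).map S.f).hom ((CohIII.TFun P p).map S.g).hom :=
  (ShortComplex.ShortExact.moduleCat_exact_iff_function_exact _).mp
    ((tensorSES_shortExact P hP S hS).homology_exact₂ p)

/-- The connecting map `T_p(M'') → T_q(M')`. -/
noncomputable def δT (p q : ι) (hpq : c.Rel p q) :
    ↥(CohIII.T P p S.X₃) →ₗ[A] ↥(CohIII.T P q S.X₁) :=
  ((tensorSES_shortExact P hP S hS).δ p q hpq).hom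

theorem exact_δT (p q : ι) (hpq : c.Rel p q) :
    Exact ((CohIII.TFun P p).map S.g).hom (δT P hP S hS p q hpq) :=
  (ShortComplex.ShortExact.moduleCat_exact_iff_function_exact _).mp
    ((tensorSES_shortExact P hP S hS).homology_exact₃ p q hpq)

theorem exact_δT' (p q : ι) (hpq : c.Rel p q) :
    Exact (δT P hP S hS p q hpq) ((CohIII.TFun P q).map S.f).hom :=
  (ShortComplex.ShortExact.moduleCat_exact_iff_function_exact _).mp
    ((tensorSES_shortExact P hP S hS).homology_exact₁ p q hpq)

end General

section Finite

theorem finite_of_exact [IsNoetherianRing A] {M N L : Type u} [AddCommGroup M] [Module A M]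
    [AddCommGroup N] [Module A N] [AddCommGroup L] [Module A L] [Module.Finite A M] [Module.Finite A L]
    {f : M →ₗ[A] N} {g : N →ₗ[A] L} (h : Exact f g) : Module.Finite A N := by
  have := isNoetherian_of_range_eq_ker f g (LinearMap.exact_iff.mp h).symm
  exact Module.IsNoetherian.finite A N

theorem isZero_T_of_isZero_X {ι : Type} {c : ComplexShape ι}
    (P : HomologicalComplex (ModuleCat.{u} A) c) (p : ι) (h : IsZero (P.X p)) (M : ModuleCat.{u} A) :
    IsZero (CohIII.T P p M) := by
  have := ModuleCat.subsingleton_of_isZero h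
  have : Subsingleton (P.opcycles p) := (pOpcycles_surjective P p).subsingleton
  have : Subsingleton (↥(P.opcycles p) ⊗[A] M) := inferInstance
  exact ModuleCat.isZero_iff_subsingleton.mpr (inc_injective P p M).subsingleton

variable [IsNoetherianRing A] (P : ChainComplex (ModuleCat.{u} A) ℤ) (hP : ∀ i, Module.Flat A (P.X i))

theorem finite_T_free (p : ℤ) (hfin : Module.Finite A (CohIII.T P p (ModuleCat.of A A))) (r : ℕ) :
    Module.Finite A (CohIII.T P p (ModuleCat.of A (Fin r → A))) := by
  let F := CohIII.TFun P p
  let φ : ↥(CohIII.T P p (ModuleCat.of A (Fin r → A))) →ₗ[A]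
      (Fin r → ↥(CohIII.T P p (ModuleCat.of A A))) :=
    LinearMap.pi fun i => (F.map (ModuleCat.ofHom (LinearMap.proj i : (Fin r → A) →ₗ[A] A))).hom
  have hinj : Injective φ := by
    intro x y hxy
    apply inc_injective P p
    apply (TensorProduct.piScalarRight A A _ (Fin r)).injective
    ext i
    have h := congrArg (inc P p (ModuleCat.of A A)) (congrFun hxy i)
    simp only [φ, LinearMap.pi_apply] at h
    replace h := congrArg (TensorProduct.rid A (P.opcycles p))
      ((inc_natural P p _ x).symm.trans (h.trans (inc_natural P p _ y)))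
    have key : ∀ z : ↥(P.opcycles p) ⊗[A] (Fin r → A),
        TensorProduct.piScalarRight A A _ (Fin r) z i =
          TensorProduct.rid A _ ((LinearMap.proj i : (Fin r → A) →ₗ[A] A).lTensor _ z) := by
      intro z
      induction z using TensorProduct.induction_on with
      | zero => simp
      | tmul m v => simp
      | add a b ha hb => simp only [map_add, Pi.add_apply, ha, hb]
    exact (key _).trans (h.trans (key _).symm)
  exact Module.Finite.of_injective φ hinj

include hP in
theorem finite_T (i₀ : ℤ) (hb : ∀ i < i₀, IsZero (P.X i))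
    (hfin : ∀ n, Module.Finite A (CohIII.T P n (ModuleCat.of A A))) (p : ℤ) :
    ∀ (M : ModuleCat.{u} A) [Module.Finite A M], Module.Finite A (CohIII.T P p M) := by
  have h0 : ∀ q < i₀, ∀ (M : ModuleCat.{u} A), Module.Finite A (CohIII.T P q M) := fun q hq M =>
    have := ModuleCat.subsingleton_of_isZero (isZero_T_of_isZero_X P q (hb q hq) M)
    inferInstance
  induction p using Int.inductionOn' (b := i₀ - 1) with
  | zero => exact fun M _ => h0 _ (by omega) M
  | succ k hk ih =>
    intro M _
    obtain ⟨r, φ, hφ⟩ := Module.Finite.exists_fin' A M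
    let S : ShortComplex (ModuleCat.{u} A) :=
      ShortComplex.mk (X₁ := ModuleCat.of A (LinearMap.ker φ)) (X₂ := ModuleCat.of A (Fin r → A))
        (ModuleCat.ofHom (LinearMap.ker φ).subtype) (ModuleCat.ofHom φ)
        (ModuleCat.hom_ext (LinearMap.exact_subtype_ker_map φ).linearMap_comp_eq_zero)
    have hS : S.ShortExact := ModuleCat.shortComplex_shortExact _ (LinearMap.exact_subtype_ker_map φ)
      (LinearMap.ker φ).injective_subtype hφ
    have : Module.Finite A S.X₁ := show Module.Finite A (LinearMap.ker φ) from inferInstance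
    have := ih S.X₁
    have : Module.Finite A ((CohIII.TFun P (k + 1)).obj S.X₂) := finite_T_free P (k + 1) (hfin _) r
    have : Module.Finite A ((CohIII.TFun P k).obj S.X₁) := ih S.X₁
    exact finite_of_exact (exact_δT P hP S hS (k + 1) k rfl)
  | pred k hk _ => exact fun M _ => h0 _ (by omega) M

end Finite

end Groth.Agent.FlatCx
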