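import Groth.Agent.FlatCx.Semicont
import Groth.Agent.FlatCx.LES
import Groth.Agent.FlatCx.Dedekind
import Mathlib.RingTheory.Filtration

/-!
More consequences: lifting from powers of the maximal ideal, generic constancy, DVR rank
inequalities, truncations.
-/

universe u

open CategoryTheory CategoryTheory.Limits TensorProduct Function Topology

namespace Groth.Agent.FlatCx

variable {A : Type u} [CommRing A]

theorem exists_eq_tmul_mk {C : Type u} [AddCommGroup C] [Module A C] (I : Ideal A)
    (y : C ⊗[A] (A ⧸ I)) : ∃ c : C, c ⊗ₜ[A] (Ideal.Quotient.mk I 1) = y := by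
  induction y using TensorProduct.induction_on with
  | zero => exact ⟨0, zero_tmul _ _⟩
  | tmul c a =>
    obtain ⟨r, rfl⟩ := Ideal.Quotient.mk_surjective a
    refine ⟨r • c, ?_⟩
    rw [smul_tmul]
    congr 1
    show r • (Submodule.Quotient.mk 1 : A ⧸ I) = Submodule.Quotient.mk r
    rw [← Submodule.Quotient.mk_smul, smul_eq_mul, mul_one]
  | add x y hx hy =>
    obtain ⟨a, rfl⟩ := hx
    obtain ⟨b, rfl⟩ := hy
    exact ⟨a + b, add_tmul _ _ _⟩

theorem tmul_mk_eq_zero_iff {C : Type u} [AddCommGroup C] [Module A C] (I : Ideal A) (c : C) :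
    c ⊗ₜ[A] (Ideal.Quotient.mk I 1) = 0 ↔ c ∈ I • (⊤ : Submodule A C) := by
  rw [← (TensorProduct.tensorQuotEquivQuotSMul C I).map_eq_zero_iff,
    TensorProduct.tensorQuotEquivQuotSMul_tmul_mk, one_smul]
  exact Submodule.Quotient.mk_eq_zero _

theorem free_of_lift_powers [IsNoetherianRing A] [IsLocalRing A]
    (P : ChainComplex (ModuleCat.{u} A) ℤ) (p q : ℤ) (hpq : q + 1 = p)
    [Module.Finite A (P.X q)] [Module.Flat A (P.X q)] (n₀ : ℕ)
    (hn : ∀ n : ℕ, n₀ ≤ n → Function.Surjective ((CohIII.TFun P p).map (ModuleCat.ofHom
        (Ideal.Quotient.factorₐ A (Ideal.pow_le_self (I := IsLocalRing.maximalIdeal A)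
          (Nat.succ_ne_zero n))).toLinearMap :
        ModuleCat.of A (A ⧸ IsLocalRing.maximalIdeal A ^ (n + 1)) ⟶
          ModuleCat.of A (A ⧸ IsLocalRing.maximalIdeal A))).hom) :
    Module.Free A (P.opcycles q) := by
  have := Module.finitePresentation_of_finite A (P.opcycles q)
  let m := IsLocalRing.maximalIdeal A
  obtain ⟨k, hk⟩ := Ideal.exists_pow_inf_eq_pow_smul m (LinearMap.range (bdry P p q))
  refine free_of_lift_residueField (exact_bdry P p q hpq) (pOpcycles_surjective P q) fun y hy => ?_
  obtain ⟨x, hx, hxy⟩ := exists_lift_of_surjective P p _ q (down_next hpq)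
    (hn (n₀ + k) (by omega)) y hy
  obtain ⟨c, rfl⟩ := exists_eq_tmul_mk _ x
  rw [LinearMap.rTensor_tmul, tmul_mk_eq_zero_iff] at hx
  have hmem : bdry P p q c ∈ m • LinearMap.range (bdry P p q) := by
    have h1 : bdry P p q c ∈ m ^ (n₀ + k + 1) • (⊤ : Submodule A (P.X q)) ⊓ LinearMap.range (bdry P p q) :=
      ⟨hx, ⟨c, rfl⟩⟩
    rw [hk _ (by omega)] at h1
    have h2 : m ^ (n₀ + k + 1 - k) • (m ^ k • (⊤ : Submodule A (P.X q)) ⊓ LinearMap.range (bdry P p q)) ≤
        m • LinearMap.range (bdry P p q) :=
      Submodule.smul_mono (Ideal.pow_le_self (by omega)) inf_le_right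
    exact h2 h1
  rw [← Submodule.map_top, ← Submodule.map_smul'', Submodule.mem_map] at hmem
  obtain ⟨e, he, hfe⟩ := hmem
  refine ⟨(c - e) ⊗ₜ[A] 1, ?_, ?_⟩
  · rw [LinearMap.rTensor_tmul, map_sub, hfe, sub_self, zero_tmul]
  · rw [← hxy, LinearMap.lTensor_tmul, LinearMap.lTensor_tmul, Submodule.mkQ_apply, sub_tmul]
    have he0 : e ⊗ₜ[A] (Ideal.Quotient.mk m 1) = 0 := (tmul_mk_eq_zero_iff m e).mpr he
    rw [show (Submodule.Quotient.mk 1 : A ⧸ m) = Ideal.Quotient.mk m 1 from rfl, he0, sub_zero]
    rfl

section Generic

theorem mem_freeLocus_of_minimal [IsReduced A] (M : Type u) [AddCommGroup M] [Module A M]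
    (x : PrimeSpectrum A) (hx : x.asIdeal ∈ minimalPrimes A) : x ∈ Module.freeLocus A M := by
  rw [Module.mem_freeLocus]
  have hfield : IsField (Localization.AtPrime x.asIdeal) := by
    have : Ring.KrullDimLE 0 (Localization.AtPrime x.asIdeal) :=
      .of_isLocalization _ hx _
    exact Ring.KrullDimLE.isField_of_isReduced
  let := hfield.toField
  exact Module.Free.of_divisionRing (K := Localization.AtPrime x.asIdeal)
    (V := LocalizedModule x.asIdeal.primeCompl M)

theorem exists_dense_locallyConstant [IsNoetherianRing A] (P : ChainComplex (ModuleCat.{u} A) ℤ)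
    (hP : ∀ i, Module.Flat A (P.X i)) (i₀ : ℤ) (hb : ∀ i < i₀, IsZero (P.X i))
    (hfg : ∀ n : ℤ, Module.Finite A (CohIII.T P n (ModuleCat.of A A))) (N : ℤ) :
    ∃ U : Set (PrimeSpectrum A), IsOpen U ∧ Dense U ∧
      ∀ p ≤ N, IsLocallyConstant (fun x : U => CohIII.dRank P p x) := by
  let R := A ⧸ nilradical A
  have : IsReduced R := (Ideal.isRadical_iff_quotient_reduced _).mp (Ideal.radical_isRadical ⊥)
  let P' := CohIII.bcCx (algebraMap A R) P
  have hX : ∀ i, Module.Flat R (P'.X i) := fun i => flat_bcCx_X P i (hP i)
  have hfin : ∀ n, Module.Finite R (P'.homology n) := by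
    intro n
    have h1 := finite_T P hP i₀ hb hfg n (ModuleCat.of A R)
    have h2 : Module.Finite A (LinearMap.ker ((bdry P n (n - 1)).rTensor R)) :=
      Module.Finite.equiv (incEquiv P n (n - 1) (down_next (by omega)) (ModuleCat.of A R))
    let e := bcHomEquiv R P n (n - 1) (down_next (by omega))
    have h3 : LinearMap.ker ((bdry P n (n - 1)).rTensor R) =
        (LinearMap.ker ((bdry P n (n - 1)).lTensor R)).map
          (TensorProduct.comm A R (P.opcycles n)).toLinearMap :=
      (map_ker_of_square ((bdry P n (n - 1)).lTensor R) ((bdry P n (n - 1)).rTensor R)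
        (TensorProduct.comm A R (P.opcycles n))
        (TensorProduct.comm A R (P.X (n - 1))) (by apply TensorProduct.ext'; intros; rfl)).symm
    have h4 : Module.Finite A (LinearMap.ker ((bdry P n (n - 1)).lTensor R)) := by
      rw [h3] at h2
      exact Module.Finite.equiv ((TensorProduct.comm A R (P.opcycles n)).submoduleMap _).symm
    have h5 : Module.Finite A (LinearMap.ker ((bdry P n (n - 1)).baseChange R)) := h4
    have : Module.Finite R (LinearMap.ker ((bdry P n (n - 1)).baseChange R)) :=
      Module.Finite.of_restrictScalars_finite A R _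
    exact Module.Finite.equiv e.symm
  have : ∀ n, Module.FinitePresentation R (P'.homology n) := fun n =>
    have := hfin n
    Module.finitePresentation_of_finite R _
  let V : Set (PrimeSpectrum R) := ⋂ n ∈ Set.Icc i₀ N, Module.freeLocus R (P'.homology n)
  have hVo : IsOpen V := (Set.finite_Icc i₀ N).isOpen_biInter fun n _ => Module.isOpen_freeLocus
  let φ := PrimeSpectrum.comap (algebraMap A R)
  have hφ : IsClosedEmbedding φ :=
    PrimeSpectrum.isClosedEmbedding_comap_of_surjective _ _ Ideal.Quotient.mk_surjective
  have hsurj : Function.Surjective φ := by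
    intro x
    have hx : x ∈ Set.range φ := by
      rw [show φ = PrimeSpectrum.comap (algebraMap A R) from rfl,
        range_comap_of_surjective R (algebraMap A R) Ideal.Quotient.mk_surjective]
      intro a ha
      rw [Ideal.Quotient.algebraMap_eq, SetLike.mem_coe, Ideal.mk_ker] at ha
      exact nilradical_le_prime x.asIdeal ha
    exact hx
  let e : PrimeSpectrum R ≃ₜ PrimeSpectrum A :=
    (hφ.isEmbedding.toHomeomorph).trans ((Homeomorph.setCongr hsurj.range_eq).trans (Homeomorph.Set.univ _))
  refine ⟨φ '' V, e.isOpenMap V hVo, ?_, ?_⟩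
  · refine (e.surjective.denseRange).dense_image e.continuous ?_
    intro x
    obtain ⟨q, hq, hqx⟩ := Ideal.exists_minimalPrimes_le (I := (⊥ : Ideal R)) (J := x.asIdeal) bot_le
    have hmem : (⟨q, hq.1.1⟩ : PrimeSpectrum R) ∈ V := by
      simp only [V, Set.mem_iInter]
      exact fun n _ => mem_freeLocus_of_minimal _ _ hq
    exact ((PrimeSpectrum.le_iff_specializes ⟨q, hq.1.1⟩ x).mp hqx).mem_closed isClosed_closure
      (subset_closure hmem)
  · intro p hp
    have hd : ∀ y ∈ V, CohIII.dRank P p (φ y) = fib (P'.homology p) y := by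
      intro y hy
      rw [← dRank_bc P p y]
      let L := Localization.AtPrime y.asIdeal
      have hfl : ∀ q ≤ N, Module.Flat L (L ⊗[R] ↥(P'.opcycles q)) := by
        intro q
        have hbase : ∀ j < i₀, Subsingleton (P'.opcycles j) := fun j hj => by
          have := ModuleCat.subsingleton_of_isZero (hb j hj)
          have : Subsingleton (P.opcycles j) := (pOpcycles_surjective P j).subsingleton
          have : Subsingleton (R ⊗[A] ↥(P.opcycles j)) := inferInstance
          exact (bcOpcyclesEquiv P j).toEquiv.subsingleton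
        induction q using Int.inductionOn' (b := i₀ - 1) with
        | zero => intro _; have := hbase (i₀ - 1) (by omega); infer_instance
        | pred k hk _ => intro _; have := hbase (k - 1) (by omega); infer_instance
        | succ k hk ih =>
          intro hq
          have hpq : k + 1 - 1 + 1 = k + 1 := by omega
          let Q := CohIII.bcCx (algebraMap R L) P'
          have : Module.Flat L (Q.X (k + 1 - 1)) := flat_bcCx_X P' _ (hX _)
          have : Module.Flat L (Q.opcycles (k + 1 - 1)) := by
            rw [add_sub_cancel_right]; exact (flat_bc_opcycles_iff P' k).mpr (ih (by omega))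
          refine (flat_bc_opcycles_iff P' (k + 1)).mp
            ((flat_opcycles_iff_flat_homology Q (k + 1) _ hpq).mpr ?_)
          rw [Module.Flat.equiv_iff (bcHomologyFlatEquiv P' (k + 1) L)]
          have hmem : y ∈ Module.freeLocus R (P'.homology (k + 1)) :=
            Set.mem_iInter₂.mp hy (k + 1) ⟨by omega, hq⟩
          have := (Module.mem_freeLocus_iff_tensor y L).mp hmem
          exact Module.Flat.of_free
      let Q := CohIII.bcCx (algebraMap R L) P'
      have : Module.Flat L (Q.X (p - 1)) := flat_bcCx_X P' _ (hX _)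
      have : Module.Flat L (Q.opcycles (p - 1)) := (flat_bc_opcycles_iff P' _).mpr (hfl _ (by omega))
      have hy' : PrimeSpectrum.comap (algebraMap R L) (IsLocalRing.closedPoint L) = y :=
        PrimeSpectrum.ext (IsLocalization.AtPrime.comap_maximalIdeal L y.asIdeal)
      calc CohIII.dRank P' p y
          = CohIII.dRank Q p (IsLocalRing.closedPoint L) :=
            (hy' ▸ (dRank_bc P' p (IsLocalRing.closedPoint L)).symm :)
        _ = fib (Q.homology p) (IsLocalRing.closedPoint L) :=
            congrFun (dRank_eq_fib_homology Q p (p - 1) (by omega)) _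
        _ = fib (P'.homology p) y := by
            rw [fib_congr (N := L ⊗[R] ↥(P'.homology p)) _ (bcHomologyFlatEquiv P' p L), fib_bc, hy']
    by_cases hpi : p < i₀
    · refine (IsLocallyConstant.iff_exists_open _).mpr fun x => ⟨Set.univ, isOpen_univ, trivial, fun z _ => ?_⟩
      have hzero : ∀ w, CohIII.dRank P p w = 0 := fun w => by
        have := ModuleCat.subsingleton_of_isZero (hb p hpi)
        have : Subsingleton (P.opcycles p) := (pOpcycles_surjective P p).subsingleton
        rw [dRank_eq_finrank_ker P p (p - 1) (down_next (by omega))]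
        exact Module.finrank_zero_of_subsingleton
      rw [hzero, hzero]
    have hlc : IsLocallyConstant (fun y : V => fib (P'.homology p) y.1) := by
      have h1 : IsLocallyConstant (fun y : V => Module.rankAtStalk (P'.homology p) y.1) :=
        (Module.isLocallyConstant_rankAtStalk_freeLocus (R := R) (M := P'.homology p)).comp_continuous
          (f := fun y : V => (⟨y.1, Set.mem_iInter₂.mp y.2 p ⟨not_lt.mp hpi, hp⟩⟩ :
            Module.freeLocus R (P'.homology p))) (by fun_prop)
      convert h1 using 2 with y
      have hmem := Set.mem_iInter₂.mp y.2 p ⟨not_lt.mp hpi, hp⟩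
      let L := Localization.AtPrime (y.1).asIdeal
      have hfree : Module.Free L (L ⊗[R] ↥(P'.homology p)) := (Module.mem_freeLocus_iff_tensor y.1 L).mp hmem
      have hy' : PrimeSpectrum.comap (algebraMap R L) (IsLocalRing.closedPoint L) = y.1 :=
        PrimeSpectrum.ext (IsLocalization.AtPrime.comap_maximalIdeal L (y.1).asIdeal)
      calc fib (P'.homology p) y.1
          = fib (L ⊗[R] ↥(P'.homology p)) (IsLocalRing.closedPoint L) := by rw [fib_bc, hy']
        _ = Module.finrank L (L ⊗[R] ↥(P'.homology p)) := by
            rw [fib, Module.finrank_baseChange]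
        _ = _ := (Module.rankAtStalk_eq_finrank_tensorProduct y.1).symm
    have : (fun x : φ '' V => CohIII.dRank P p x) =
        (fun y : V => fib (P'.homology p) y.1) ∘
          (fun x : φ '' V => (⟨e.symm x.1, by
            obtain ⟨y, hy, hyx⟩ := x.2
            rw [← hyx, show φ y = e y from rfl, e.symm_apply_apply]
            exact hy⟩ : V)) := by
      funext x
      obtain ⟨y, hy, hyx⟩ := x.2
      have h1 : e.symm x.1 = y := by rw [← hyx, show φ y = e y from rfl, e.symm_apply_apply]
      simp only [Function.comp_apply, h1]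
      rw [← hyx, hd y hy]
    rw [this]
    exact hlc.comp_continuous (by fun_prop)

end Generic

section DVR

variable [IsDomain A] [IsDiscreteValuationRing A] (P : ChainComplex (ModuleCat.{u} A) ℤ)
  (hP : ∀ i, Module.Flat A (P.X i)) (hfin : ∀ i, Module.Finite A (P.homology i))

omit [IsDomain A] [IsDiscreteValuationRing A] in
theorem finrank_bc_flat (p : ℤ) (K : Type u) [CommRing K] [Algebra A K] [Module.Flat A K] :
    Module.finrank K ((CohIII.bcCx (algebraMap A K) P).homology p) =
      Module.finrank K (K ⊗[A] ↥(P.homology p)) :=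
  (bcHomologyFlatEquiv P p K).finrank_eq

theorem finrank_frac_eq_fib (M : Type u) [AddCommGroup M] [Module A M] :
    Module.finrank (FractionRing A) (FractionRing A ⊗[A] M) = fib M (⊥ : PrimeSpectrum A) := by
  let q : PrimeSpectrum A := ⊥
  let φ : q.asIdeal.ResidueField →+* FractionRing A :=
    Ideal.ResidueField.lift q.asIdeal (algebraMap A (FractionRing A))
      (fun a ha => by rw [RingHom.mem_ker, show a = 0 from ha, map_zero])
      (fun a ha => IsUnit.mk0 _ (by
        rw [Ne, map_eq_zero_iff _ (IsFractionRing.injective A (FractionRing A))]; exact ha))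
  let := φ.toAlgebra
  have : IsScalarTower A q.asIdeal.ResidueField (FractionRing A) :=
    .of_algebraMap_eq fun a => by
      rw [RingHom.algebraMap_toAlgebra]
      exact (Ideal.ResidueField.lift_algebraMap _ _ _ _ a).symm
  exact fib_eq_finrank (FractionRing A) M q

theorem finrank_residue_eq_fib (M : Type u) [AddCommGroup M] [Module A M] :
    Module.finrank (IsLocalRing.ResidueField A) (IsLocalRing.ResidueField A ⊗[A] M) =
      fib M (IsLocalRing.closedPoint A) := by
  let x := IsLocalRing.closedPoint A
  let φ : x.asIdeal.ResidueField →+* IsLocalRing.ResidueField A :=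
    Ideal.ResidueField.lift x.asIdeal (algebraMap A (IsLocalRing.ResidueField A))
      (fun a ha => by rwa [RingHom.mem_ker, IsLocalRing.ResidueField.algebraMap_eq, IsLocalRing.residue_eq_zero_iff])
      (fun a ha => IsUnit.mk0 _ (by
        rw [Ne, IsLocalRing.ResidueField.algebraMap_eq, IsLocalRing.residue_eq_zero_iff]; exact ha))
  let := φ.toAlgebra
  have : IsScalarTower A x.asIdeal.ResidueField (IsLocalRing.ResidueField A) :=
    .of_algebraMap_eq fun a => by
      rw [RingHom.algebraMap_toAlgebra]
      exact (Ideal.ResidueField.lift_algebraMap _ _ _ _ a).symm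
  exact fib_eq_finrank (IsLocalRing.ResidueField A) M x

include hfin in
theorem finrank_frac_le' (p : ℤ) :
    fib (P.homology p) (⊥ : PrimeSpectrum A) ≤ fib (P.homology p) (IsLocalRing.closedPoint A) :=
  have := hfin p
  fib_le_closedPoint _ _

include hfin in
theorem finrank_frac_le (p : ℤ) :
    Module.finrank (FractionRing A) ((CohIII.bcCx (algebraMap A (FractionRing A)) P).homology p) ≤
      Module.finrank (IsLocalRing.ResidueField A)
        (IsLocalRing.ResidueField A ⊗[A] ↥(P.homology p)) := by
  have : Module.Flat A (FractionRing A) := IsLocalization.flat _ (nonZeroDivisors A)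
  rw [finrank_bc_flat, finrank_frac_eq_fib, finrank_residue_eq_fib]
  exact finrank_frac_le' P hfin p

/-- `k ⊗ H_p → ker (k ⊗ bdry)`. -/
noncomputable def kTo (p q : ℤ) :
    IsLocalRing.ResidueField A ⊗[A] ↥(LinearMap.ker (bdry P p q))
      →ₗ[IsLocalRing.ResidueField A]
        LinearMap.ker ((bdry P p q).baseChange (IsLocalRing.ResidueField A)) :=
  ((LinearMap.ker (bdry P p q)).subtype.baseChange (IsLocalRing.ResidueField A)).codRestrict _ fun z => by
    rw [LinearMap.mem_ker, ← LinearMap.comp_apply, ← LinearMap.baseChange_comp,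
      (LinearMap.exact_subtype_ker_map (bdry P p q)).linearMap_comp_eq_zero, LinearMap.baseChange_zero,
      LinearMap.zero_apply]

include hP in
theorem kTo_injective (p q : ℤ) : Injective (kTo P p q) := by
  have := hP q
  refine fun a b hab => ?_
  have : Module.Flat A (LinearMap.range (bdry P p q)) := by
    rw [flat_iff_smul]
    intro a x ha hx
    exact Subtype.ext ((flat_iff_smul (P.X q)).mp inferInstance a x ha (congrArg Subtype.val hx))
  refine LinearMap.lTensor_injective_of_exact_of_flat (bdry P p q).rangeRestrict
    (bdry P p q).surjective_rangeRestrict _ (LinearMap.ker (bdry P p q)).injective_subtype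
    (LinearMap.exact_iff.mpr (by rw [Submodule.range_subtype, LinearMap.ker_rangeRestrict])) _
    (congrArg Subtype.val hab)

include hP hfin in
theorem finite_ker_residue (p q : ℤ) (hpq : q + 1 = p) :
    Module.Finite (IsLocalRing.ResidueField A)
      (LinearMap.ker ((bdry P p q).baseChange (IsLocalRing.ResidueField A))) := by
  obtain ⟨ϖ, hϖ⟩ := IsDiscreteValuationRing.exists_irreducible A
  let g : A →ₗ[A] A := LinearMap.mulLeft A ϖ
  let S : ShortComplex (ModuleCat.{u} A) :=
    ShortComplex.mk (X₁ := ModuleCat.of A A) (X₂ := ModuleCat.of A A)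
      (X₃ := ModuleCat.of A (IsLocalRing.ResidueField A))
      (ModuleCat.ofHom g) (ModuleCat.ofHom (Algebra.linearMap A (IsLocalRing.ResidueField A)))
      (ModuleCat.hom_ext (LinearMap.ext fun a => by
        show IsLocalRing.residue A (ϖ * a) = 0
        rw [IsLocalRing.residue_eq_zero_iff, hϖ.maximalIdeal_eq]
        exact Ideal.mul_mem_right _ _ (Ideal.mem_span_singleton_self _)))
  have hS : S.ShortExact := by
    refine ModuleCat.shortComplex_shortExact _ ?_ (mul_right_injective₀ hϖ.ne_zero)
      Ideal.Quotient.mk_surjective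
    intro a
    refine (IsLocalRing.residue_eq_zero_iff a).trans ?_
    rw [hϖ.maximalIdeal_eq, Ideal.mem_span_singleton']
    exact ⟨fun ⟨b, hb⟩ => ⟨b, (mul_comm ϖ b).trans hb⟩, fun ⟨b, hb⟩ => ⟨b, (mul_comm b ϖ).trans hb⟩⟩
  have : Module.Finite A ((CohIII.TFun P p).obj S.X₂) :=
    have := hfin p
    Module.Finite.equiv (TAEquiv P p).symm
  have : Module.Finite A ((CohIII.TFun P q).obj S.X₁) :=
    have := hfin q
    Module.Finite.equiv (TAEquiv P q).symm
  have : Module.Finite A ↑(CohIII.T P q S.X₁) := ‹Module.Finite A ((CohIII.TFun P q).obj S.X₁)›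
  have h1 : Module.Finite A (CohIII.T P p (ModuleCat.of A (IsLocalRing.ResidueField A))) :=
    finite_of_exact (exact_δT P hP S hS p q hpq)
  have h2 : Module.Finite A (LinearMap.ker ((bdry P p q).rTensor (IsLocalRing.ResidueField A))) :=
    Module.Finite.equiv (incEquiv P p q (down_next hpq) (ModuleCat.of A (IsLocalRing.ResidueField A)))
  have h3 : LinearMap.ker ((bdry P p q).rTensor (IsLocalRing.ResidueField A)) =
      (LinearMap.ker ((bdry P p q).lTensor (IsLocalRing.ResidueField A))).map
        (TensorProduct.comm A (IsLocalRing.ResidueField A) (P.opcycles p)).toLinearMap :=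
    (map_ker_of_square ((bdry P p q).lTensor (IsLocalRing.ResidueField A))
      ((bdry P p q).rTensor (IsLocalRing.ResidueField A)) (TensorProduct.comm A _ (P.opcycles p))
      (TensorProduct.comm A _ (P.X q)) (by apply TensorProduct.ext'; intros; rfl)).symm
  have h4 : Module.Finite A (LinearMap.ker ((bdry P p q).lTensor (IsLocalRing.ResidueField A))) := by
    rw [h3] at h2
    exact Module.Finite.equiv ((TensorProduct.comm A _ (P.opcycles p)).submoduleMap _).symm
  have : Module.Finite A (LinearMap.ker ((bdry P p q).baseChange (IsLocalRing.ResidueField A))) := h4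
  exact Module.Finite.of_restrictScalars_finite A _ _

theorem finrank_hom_residue (p q : ℤ) (hpq : q + 1 = p) :
    Module.finrank (IsLocalRing.ResidueField A)
        (IsLocalRing.ResidueField A ⊗[A] ↥(LinearMap.ker (bdry P p q))) =
      Module.finrank (IsLocalRing.ResidueField A) (IsLocalRing.ResidueField A ⊗[A] ↥(P.homology p)) :=
  ((homEquivKer P p q (down_next hpq)).baseChange A (IsLocalRing.ResidueField A) _ _).finrank_eq.symm

include hP hfin in
theorem finrank_residue_le (p q : ℤ) (hpq : q + 1 = p) :
    Module.finrank (IsLocalRing.ResidueField A)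
        (IsLocalRing.ResidueField A ⊗[A] ↥(P.homology p)) ≤
      Module.finrank (IsLocalRing.ResidueField A)
        ((CohIII.bcCx (algebraMap A (IsLocalRing.ResidueField A)) P).homology p) := by
  rw [(bcHomEquiv (IsLocalRing.ResidueField A) P p q (down_next hpq)).finrank_eq,
    ← finrank_hom_residue P p q hpq]
  have := finite_ker_residue P hP hfin p q hpq
  exact LinearMap.finrank_le_finrank_of_injective (kTo_injective P hP p q)

include hP hfin in
theorem finrank_frac_iff (p q : ℤ) (hpq : q + 1 = p) :
    Module.finrank (FractionRing A) ((CohIII.bcCx (algebraMap A (FractionRing A)) P).homology p) ≤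
        Module.finrank (IsLocalRing.ResidueField A)
          ((CohIII.bcCx (algebraMap A (IsLocalRing.ResidueField A)) P).homology p) ∧
      (Module.finrank (FractionRing A) ((CohIII.bcCx (algebraMap A (FractionRing A)) P).homology p) =
          Module.finrank (IsLocalRing.ResidueField A)
            ((CohIII.bcCx (algebraMap A (IsLocalRing.ResidueField A)) P).homology p) ↔
        Module.Free A (P.homology p) ∧ Module.Free A (P.homology q)) := by
  have : Module.Flat A (FractionRing A) := IsLocalization.flat _ (nonZeroDivisors A)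
  have := hfin p; have := hfin q; have := hP q; have := hP (q - 1)
  have := finite_ker_residue P hP hfin p q hpq
  have hinj := kTo_injective P hP p q
  have hle := finrank_residue_le P hP hfin p q hpq
  have hle' := finrank_frac_le P hfin p
  refine ⟨hle'.trans hle, ?_⟩
  constructor
  · intro heq
    have e1 : Module.finrank (IsLocalRing.ResidueField A)
        (IsLocalRing.ResidueField A ⊗[A] ↥(P.homology p)) = Module.finrank (FractionRing A)
        ((CohIII.bcCx (algebraMap A (FractionRing A)) P).homology p) :=
      le_antisymm (hle.trans heq.ge) hle'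
    refine ⟨?_, ?_⟩
    · rw [finrank_bc_flat, finrank_frac_eq_fib, finrank_residue_eq_fib] at e1
      refine free_of_fib_eq_minimalPrimes _ fun y hy => ?_
      have : y = ⊥ := PrimeSpectrum.ext (by
        rw [minimalPrimes_eq_minimals] at hy
        exact le_bot_iff.mp (hy.2 Ideal.isPrime_bot bot_le))
      rw [this, e1]
    · have hsurj : Surjective (kTo P p q) := by
        have := Module.Finite.equiv
          ((homEquivKer P p q (down_next hpq)).baseChange A (IsLocalRing.ResidueField A) _ _)
        rw [← LinearMap.range_eq_top]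
        refine Submodule.eq_top_of_finrank_eq (K := IsLocalRing.ResidueField A)
          (V := LinearMap.ker ((bdry P p q).baseChange (IsLocalRing.ResidueField A))) ?_
        rw [LinearMap.finrank_range_of_inj hinj, finrank_hom_residue P p q hpq, e1, heq,
          (bcHomEquiv (IsLocalRing.ResidueField A) P p q (down_next hpq)).finrank_eq]
      have hflat : Module.Flat A (P.opcycles q) := by
        refine flat_of_lift_dvr (exact_bdry P p q hpq) (pOpcycles_surjective P q) fun y hy => ?_
        obtain ⟨z, hz⟩ := hsurj ⟨TensorProduct.comm A _ _ y, LinearMap.mem_ker.mpr (by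
          have h := (congrArg (TensorProduct.comm A _ (IsLocalRing.ResidueField A)) hy).trans (map_zero _)
          have hgen : ∀ v : ↥(P.opcycles p) ⊗[A] IsLocalRing.ResidueField A,
              (bdry P p q).baseChange (IsLocalRing.ResidueField A) (TensorProduct.comm A _ _ v) =
                TensorProduct.comm A _ _ ((bdry P p q).rTensor (IsLocalRing.ResidueField A) v) := by
            intro v
            induction v using TensorProduct.induction_on with
            | zero => simp
            | tmul c a => rfl
            | add a b ha hb => simp only [map_add, ha, hb]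
          exact (hgen y).trans h)⟩
        obtain ⟨w, hw⟩ := TensorProduct.mk_surjective A ↥(LinearMap.ker (bdry P p q))
          (IsLocalRing.ResidueField A) Ideal.Quotient.mk_surjective z
        refine ⟨(w : P.opcycles p) ⊗ₜ[A] 1, ?_, ?_⟩
        · rw [LinearMap.rTensor_tmul, LinearMap.mem_ker.mp w.2, zero_tmul]
        · have hz' := congrArg Subtype.val hz
          rw [← hw] at hz'
          rw [LinearMap.lTensor_tmul]
          apply (TensorProduct.comm A _ _).injective
          exact hz'
      have := (flat_opcycles_iff P q (q - 1) (by omega)).mp hflat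
      exact Module.free_of_flat_of_isLocalRing
  · rintro ⟨_, _⟩
    have := (flat_opcycles_iff P q (q - 1) (by omega)).mpr inferInstance
    have hsurj : Surjective (kTo P p q) := by
      rintro ⟨y, hy⟩
      have hex := (LinearMap.rTensor_exact_iff_lTensor_exact (Q := IsLocalRing.ResidueField A)).mp
        (exact_ker_rTensor (exact_bdry P p q hpq) (pOpcycles_surjective P q) (IsLocalRing.ResidueField A))
      obtain ⟨z, hz⟩ := (hex y).mp hy
      exact ⟨z, Subtype.ext hz⟩
    rw [(bcHomEquiv (IsLocalRing.ResidueField A) P p q (down_next hpq)).finrank_eq,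
      ← (LinearEquiv.ofBijective _ ⟨hinj, hsurj⟩).finrank_eq, finrank_hom_residue P p q hpq,
      finrank_bc_flat, finrank_frac_eq_fib, finrank_residue_eq_fib, fib_eq_rankAtStalk]
    exact Module.rankAtStalk_eq_of_le_of_finite_of_flat _ bot_le

end DVR

section Trunc

theorem projective_opcycles (A : Type u) [CommRing A] [IsNoetherianRing A]
    (Q : CochainComplex (ModuleCat.{u} A) ℤ)
    (hQ : ∀ i, Module.Finite A (Q.X i) ∧ Module.Projective A (Q.X i)) (d : ℤ)
    (h2 : ∀ (m : Ideal A) [m.IsMaximal],
      IsZero ((CohIII.tensorObj Q (ModuleCat.of A (A ⧸ m))).homology (d - 1))) :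
    Module.Projective A (Q.opcycles d) := by
  have hnext : (ComplexShape.up ℤ).next (d - 1) = d := (ComplexShape.up ℤ).next_eq' (show d - 1 + 1 = d by omega)
  have hprev : (ComplexShape.up ℤ).prev d = d - 1 := (ComplexShape.up ℤ).prev_eq' (show d - 1 + 1 = d by omega)
  have := (hQ d).1; have := (hQ d).2; have := (hQ (d - 1)).1
  have := Module.finitePresentation_of_finite A (Q.opcycles d)
  have hex := exact_fromOpcycles_pOpcycles Q (d - 1) d hprev
  suffices Module.Flat A (Q.opcycles d) from
    Module.freeLocus_eq_univ_iff.mp Module.freeLocus_eq_univ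
  refine Module.flat_of_localized_maximal _ fun m hm => ?_
  let L := Localization.AtPrime m
  let f := bdry Q (d - 1) d
  have hinj : Injective (f.rTensor (A ⧸ m)) :=
    (isZero_iff_injective Q (d - 1) d hnext (ModuleCat.of A (A ⧸ m))).mp (h2 m)
  have : Module.Free L (L ⊗[A] ↥(Q.X d)) := Module.free_of_flat_of_isLocalRing
  have hinjL : Injective ((f.baseChange L).lTensor (IsLocalRing.ResidueField L)) := by
    let k := IsLocalRing.ResidueField L
    let φ : (A ⧸ m) →ₐ[A] k := Ideal.Quotient.liftₐ m (Algebra.ofId A k) fun a ha => by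
      have hu : algebraMap A L a ∈ IsLocalRing.maximalIdeal L :=
        (IsLocalization.AtPrime.to_map_mem_maximal_iff L m a).mpr ha
      show algebraMap A k a = 0
      rw [IsScalarTower.algebraMap_apply A L k, IsLocalRing.ResidueField.algebraMap_eq,
        IsLocalRing.residue_eq_zero_iff]
      exact hu
    let : Field (A ⧸ m) := Ideal.Quotient.field m
    let := φ.toRingHom.toAlgebra
    have : IsScalarTower A (A ⧸ m) k := .of_algebraMap_eq fun a => (φ.commutes a).symm
    have hK : Injective (f.baseChange (A ⧸ m)) :=
      (LinearMap.lTensor_inj_iff_rTensor_inj (A ⧸ m) f).mpr hinj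
    have hk : Injective (f.baseChange k) := by
      intro x y hxy
      have hc := fun z => LinearMap.congr_fun (AlgebraTensorModule.lTensor_comp_cancelBaseChange
        (R := A) (A := A ⧸ m) (B := k) (M := k) f) z
      obtain ⟨x', rfl⟩ := (AlgebraTensorModule.cancelBaseChange A (A ⧸ m) k k _).surjective x
      obtain ⟨y', rfl⟩ := (AlgebraTensorModule.cancelBaseChange A (A ⧸ m) k k _).surjective y
      refine congrArg _ (Module.Flat.lTensor_preserves_injective_linearMap (M := k)
        (f.baseChange (A ⧸ m)) hK ?_)
      apply (AlgebraTensorModule.cancelBaseChange A (A ⧸ m) k k _).injective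
      exact (hc x').symm.trans (hxy.trans (hc y'))
    intro x y hxy
    apply (AlgebraTensorModule.cancelBaseChange A L k k _).injective
    apply hk
    have hc := fun z => LinearMap.congr_fun (AlgebraTensorModule.lTensor_comp_cancelBaseChange
        (R := A) (A := L) (B := k) (M := k) f) z
    exact (hc x).trans ((congrArg (AlgebraTensorModule.cancelBaseChange A L k k (Q.X d)) hxy).trans (hc y).symm)
  obtain ⟨l, hl⟩ := (IsLocalRing.split_injective_iff_lTensor_residueField_injective (f.baseChange L)).mpr hinjL
  have hexL : Exact (f.baseChange L) ((Q.pOpcycles d).hom.baseChange L) :=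
    lTensor_exact L hex (pOpcycles_surjective Q d)
  have : Module.Flat L (L ⊗[A] ↥(Q.opcycles d)) :=
    flat_of_surjOn hexL (LinearMap.baseChange_surjective L (pOpcycles_surjective Q d))
      (surjOn_of_forall_injective fun M _ _ => Function.LeftInverse.injective (g := l.rTensor M) fun x => by
        rw [← LinearMap.comp_apply, ← LinearMap.rTensor_comp, hl, LinearMap.rTensor_id, LinearMap.id_apply])
  have : Module.Flat A (L ⊗[A] ↥(Q.opcycles d)) := Module.Flat.trans A L _
  exact Module.Flat.of_linearEquiv
    ((LocalizedModule.equivTensorProduct m.primeCompl ↥(Q.opcycles d)).restrictScalars A)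

theorem flat_cycles (A : Type u) [CommRing A]
    (F : CochainComplex (ModuleCat.{u} A) ℤ) (hF : ∀ i, Module.Flat A (F.X i))
    (hb : ∃ b : ℤ, ∀ i, b < i → IsZero (F.X i)) (d : ℤ) (hac : ∀ p, d < p → IsZero (F.homology p)) :
    Module.Flat A (F.cycles d) := by
  obtain ⟨b, hb⟩ := hb
  have key : ∀ n : ℕ, ∀ i, d ≤ i → b < i + n → Module.Flat A (LinearMap.ker (F.d i (i + 1)).hom) := by
    intro n
    induction n with
    | zero =>
      intro i _ hi
      have := ModuleCat.subsingleton_of_isZero (hb i (by omega))
      infer_instance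
    | succ n ih =>
      intro i hdi hi
      have hflat := ih (i + 1) (by omega) (by omega)
      have hEx : Exact (F.d i (i + 1)).hom (F.d (i + 1) (i + 1 + 1)).hom :=
        (ShortComplex.ShortExact.moduleCat_exact_iff_function_exact _).mp
          ((F.exactAt_iff' i (i + 1) (i + 1 + 1) (by simp) (by simp)).mp
            ((F.exactAt_iff_isZero_homology _).mpr (hac (i + 1) (by omega))))
      have := hF i
      let g := (F.d i (i + 1)).hom
      have : Module.Flat A (LinearMap.range g) := by
        rw [show LinearMap.range g = LinearMap.ker (F.d (i + 1) (i + 1 + 1)).hom from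
          (LinearMap.exact_iff.mp hEx).symm]
        exact hflat
      have h := flat_ker (f := g.rangeRestrict) (π := (0 : LinearMap.range g →ₗ[A] PUnit.{u + 1}))
        (fun x => ⟨fun _ => g.surjective_rangeRestrict x, fun _ => rfl⟩) (fun x => ⟨0, Subsingleton.elim _ _⟩)
      rwa [LinearMap.ker_rangeRestrict] at h
  have hd := key ((b - d).toNat + 1) d le_rfl (by omega)
  have h1 : Injective (F.iCycles d).hom := (ModuleCat.mono_iff_injective _).mp inferInstance
  have h2 : LinearMap.range (F.iCycles d).hom = LinearMap.ker (F.d d (d + 1)).hom :=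
    (ShortComplex.exact_of_f_is_kernel (ShortComplex.mk _ _ (F.iCycles_d d (d + 1)))
      (F.cyclesIsKernel d (d + 1) (by simp))).moduleCat_range_eq_ker
  exact Module.Flat.of_linearEquiv (LinearEquiv.ofInjective _ h1 ≪≫ₗ LinearEquiv.ofEq _ _ h2)

end Trunc

end Groth.Agent.FlatCx
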