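import Groth.Prelude.Def_DRing2
import Mathlib.Algebra.Homology.HomologySequence
import Mathlib.Algebra.Homology.ShortComplex.ModuleCat
import Mathlib.Algebra.Homology.HomologicalComplexAbelian
import Mathlib.Algebra.Category.ModuleCat.Monoidal.Symmetric
import Mathlib.Algebra.Category.ModuleCat.Projective
import Mathlib.RingTheory.Flat.Basic
import Mathlib.LinearAlgebra.TensorProduct.RightExactness

/-!
# `Tor` in the first variable: dimension shifting
-/

universe u

open CategoryTheory CategoryTheory.Limits TensorProduct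
open scoped MonoidalCategory

namespace Groth.Agent.FlatCx.TorLES

noncomputable section

variable (A : Type u) [CommRing A] (N : Type u) [AddCommGroup N] [Module A N]

/-- a fixed projective resolution -/
abbrev res : ProjectiveResolution (ModuleCat.of A N) := projectiveResolution (ModuleCat.of A N)

/-- `X ⊗ R` -/
abbrev tc (X : ModuleCat.{u} A) : ChainComplex (ModuleCat.{u} A) ℕ :=
  (((MonoidalCategory.tensoringLeft (ModuleCat.{u} A)).obj X).mapHomologicalComplex _).obj (res A N).complex

/-- functoriality -/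
def tcMap {X Y : ModuleCat.{u} A} (g : X ⟶ Y) : tc A N X ⟶ tc A N Y :=
  (NatTrans.mapHomologicalComplex ((MonoidalCategory.tensoringLeft (ModuleCat.{u} A)).map g) _).app
    (res A N).complex

lemma tcMap_f {X Y : ModuleCat.{u} A} (g : X ⟶ Y) (i : ℕ) (x : X ⊗[A] (res A N).complex.X i) :
    (tcMap A N g).f i x = g.hom.rTensor _ x := rfl

/-- `Tor` as homology of `X ⊗ R` -/
def torEquiv (X : Type u) [AddCommGroup X] [Module A X] (n : ℕ) :
    DRing.Tor A n X N ≃ₗ[A] (tc A N (ModuleCat.of A X)).homology n :=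
  ((res A N).isoLeftDerivedObj ((MonoidalCategory.tensoringLeft (ModuleCat.{u} A)).obj (ModuleCat.of A X)) n).toLinearEquiv

instance flat_res (i : ℕ) : Module.Flat A ((res A N).complex.X i) :=
  haveI := (res A N).projective i
  haveI := (IsProjective.iff_projective ((res A N).complex.X i)).mpr this
  inferInstance

lemma exact_res (i : ℕ) :
    Function.Exact ((res A N).complex.d (i + 2) (i + 1)).hom ((res A N).complex.d (i + 1) i).hom :=
  (ShortComplex.ShortExact.moduleCat_exact_iff_function_exact _).mp ((res A N).exact_succ i)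

/-- the augmentation -/
abbrev π₀ : (res A N).complex.X 0 →ₗ[A] N := ((res A N).π.f 0).hom

lemma π₀_surjective : Function.Surjective (π₀ A N) :=
  (ModuleCat.epi_iff_surjective ((res A N).π.f 0)).mp inferInstance

lemma exact_π₀ : Function.Exact ((res A N).complex.d 1 0).hom (π₀ A N) :=
  (ShortComplex.ShortExact.moduleCat_exact_iff_function_exact _).mp
    (ShortComplex.exact_of_g_is_cokernel (ShortComplex.mk _ _ (res A N).complex_d_comp_π_f_zero)
      (res A N).isColimitCokernelCofork)

/-- flat modules have no higher `Tor` -/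
theorem exact_tensor_of_flat (X : Type u) [AddCommGroup X] [Module A X] [Module.Flat A X] (i : ℕ) :
    Function.Exact (((res A N).complex.d (i + 2) (i + 1)).hom.lTensor X)
      (((res A N).complex.d (i + 1) i).hom.lTensor X) :=
  Module.Flat.lTensor_exact X (exact_res A N i)

theorem isZero_homology_of_flat (X : ModuleCat.{u} A) [Module.Flat A X] (i : ℕ) :
    IsZero ((tc A N X).homology (i + 1)) := by
  rw [← HomologicalComplex.exactAt_iff_isZero_homology,
    HomologicalComplex.exactAt_iff' _ (i + 2) (i + 1) i (by simp) (by simp)]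
  exact (ShortComplex.ShortExact.moduleCat_exact_iff_function_exact _).mpr (exact_tensor_of_flat A N X i)

variable {S : ShortComplex (ModuleCat.{u} A)} (hS : S.ShortExact)

/-- the short complex `S ⊗ R` -/
abbrev tcSC (S : ShortComplex (ModuleCat.{u} A)) : ShortComplex (ChainComplex (ModuleCat.{u} A) ℕ) :=
  ShortComplex.mk (tcMap A N S.f) (tcMap A N S.g) (by
    refine HomologicalComplex.hom_ext _ _ fun i => ModuleCat.hom_ext (LinearMap.ext fun x => ?_)
    have h : S.g.hom ∘ₗ S.f.hom = 0 := congrArg ModuleCat.Hom.hom S.zero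
    exact (LinearMap.congr_fun (LinearMap.rTensor_comp _ _ _) x).symm.trans (by
      rw [h, LinearMap.rTensor_zero]; rfl))

include hS in
theorem tcSC_shortExact : (tcSC A N S).ShortExact := by
  have := hS.mono_f
  have := hS.epi_g
  have hi : Function.Injective S.f.hom := (ModuleCat.mono_iff_injective _).mp inferInstance
  have hp : Function.Surjective S.g.hom := (ModuleCat.epi_iff_surjective _).mp inferInstance
  have he : Function.Exact S.f.hom S.g.hom :=
    (ShortComplex.ShortExact.moduleCat_exact_iff_function_exact _).mp hS.exact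
  refine HomologicalComplex.shortExact_of_degreewise_shortExact _ fun i => ?_
  exact {
    exact := (ShortComplex.ShortExact.moduleCat_exact_iff_function_exact _).mpr
      (rTensor_exact _ he hp)
    mono_f := (ModuleCat.mono_iff_injective _).mpr
      (Module.Flat.rTensor_preserves_injective_linearMap _ hi)
    epi_g := (ModuleCat.epi_iff_surjective _).mpr (LinearMap.rTensor_surjective _ hp) }

include hS in
/-- dimension shifting -/
theorem nonempty_homology_shift [Module.Flat A S.X₂] (i : ℕ) :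
    Nonempty ((tc A N S.X₃).homology (i + 2) ≃ₗ[A] (tc A N S.X₁).homology (i + 1)) :=
  ⟨((tcSC_shortExact A N hS).δIso (i + 2) (i + 1) rfl (isZero_homology_of_flat A N S.X₂ (i + 1))
    (isZero_homology_of_flat A N S.X₂ i)).toLinearEquiv⟩

end

noncomputable section

variable {A : Type u} [CommRing A] (N : Type u) [AddCommGroup N] [Module A N]
  {X Y Z : Type u} [AddCommGroup X] [Module A X] [AddCommGroup Y] [Module A Y] [AddCommGroup Z] [Module A Z]
  (i : X →ₗ[A] Y) (p : Y →ₗ[A] Z) (hi : Function.Injective i) (hp : Function.Surjective p)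
  (hip : Function.Exact i p)

include hi hp hip

/-- `Tor_{n+2}(Z, N) = Tor_{n+1}(X, N)` for `0 → X → Y → Z → 0` with `Y` flat. -/
theorem nonempty_tor_shift [Module.Flat A Y] (n : ℕ) :
    Nonempty (DRing.Tor A (n + 2) Z N ≃ₗ[A] DRing.Tor A (n + 1) X N) := by
  let S : ShortComplex (ModuleCat.{u} A) :=
    ShortComplex.mk (ModuleCat.ofHom i) (ModuleCat.ofHom p) (ModuleCat.hom_ext hip.linearMap_comp_eq_zero)
  have hS : S.ShortExact :=
    { exact := (ShortComplex.ShortExact.moduleCat_exact_iff_function_exact _).mpr hip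
      mono_f := (ModuleCat.mono_iff_injective _).mpr hi
      epi_g := (ModuleCat.epi_iff_surjective _).mpr hp }
  have : Module.Flat A S.X₂ := inferInstanceAs (Module.Flat A Y)
  obtain ⟨e⟩ := nonempty_homology_shift A N hS n
  exact ⟨(torEquiv A N Z (n + 2)).trans (e.trans (torEquiv A N X (n + 1)).symm)⟩

/-- `Tor_1(Z, N) = ker (X ⊗ N → Y ⊗ N)` for `0 → X → Y → Z → 0` with `Y` flat. -/
theorem nonempty_tor_one_equiv_ker [Module.Flat A Y] :
    Nonempty (DRing.Tor A 1 Z N ≃ₗ[A] LinearMap.ker (i.rTensor N)) := by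
  let R := (res A N).complex
  let d : (j k : ℕ) → R.X j →ₗ[A] R.X k := fun j k => (R.d j k).hom
  let C := tc A N (ModuleCat.of A Z)
  have e₁ : DRing.Tor A 1 Z N ≃ₗ[A] LinearMap.ker ((d 1 0).lTensor Z) ⧸
      (LinearMap.range ((d 2 1).lTensor Z)).comap (LinearMap.ker ((d 1 0).lTensor Z)).subtype :=
    (torEquiv A N Z 1).trans ((C.homologyIsoSc' 2 1 0 (by simp) (by simp)).toLinearEquiv.trans
      ((C.sc' 2 1 0).moduleCatHomologyIso.toLinearEquiv.trans (Submodule.quotEquivOfEq _ _ (by
        ext z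
        simp only [LinearMap.mem_range]
        exact ⟨fun ⟨y, hy⟩ => ⟨y, congrArg Subtype.val hy⟩, fun ⟨y, hy⟩ => ⟨y, Subtype.ext hy⟩⟩))))
  suffices h : Nonempty ((LinearMap.ker ((d 1 0).lTensor Z) ⧸
      (LinearMap.range ((d 2 1).lTensor Z)).comap (LinearMap.ker ((d 1 0).lTensor Z)).subtype)
      ≃ₗ[A] LinearMap.ker (i.rTensor N)) from ⟨e₁.trans h.some⟩
  have comm : ∀ {U V : Type u} [AddCommGroup U] [Module A U] [AddCommGroup V] [Module A V]
      (a : U →ₗ[A] V) {P Q : Type u} [AddCommGroup P] [Module A P] [AddCommGroup Q] [Module A Q]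
      (b : P →ₗ[A] Q) (x : U ⊗[A] P), a.rTensor Q (b.lTensor U x) = b.lTensor V (a.rTensor P x) := by
    intro U V _ _ _ _ a P Q _ _ _ _ b x
    rw [← LinearMap.comp_apply, ← LinearMap.comp_apply, LinearMap.rTensor_comp_lTensor,
      LinearMap.lTensor_comp_rTensor]
  have hi0 : Function.Injective (i.rTensor (R.X 0)) := Module.Flat.rTensor_preserves_injective_linearMap _ hi
  let W : Submodule A (Y ⊗[A] R.X 1) := (LinearMap.ker ((d 1 0).lTensor Z)).comap (p.rTensor (R.X 1))
  have hW : ∀ w : W, (d 1 0).lTensor Y w.1 ∈ LinearMap.range (i.rTensor (R.X 0)) := fun w =>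
    (rTensor_exact (R.X 0) hip hp _).mp ((comm p (d 1 0) w.1).trans w.2)
  let a : W →ₗ[A] X ⊗[A] R.X 0 := (LinearEquiv.ofInjective _ hi0).symm.toLinearMap ∘ₗ
    (((d 1 0).lTensor Y).comp W.subtype).codRestrict _ hW
  have ha : ∀ w, i.rTensor (R.X 0) (a w) = (d 1 0).lTensor Y w.1 := fun w =>
    congrArg Subtype.val ((LinearEquiv.ofInjective _ hi0).apply_symm_apply ⟨_, hW w⟩)
  have hπd : ∀ {U : Type u} [AddCommGroup U] [Module A U] (z : U ⊗[A] R.X 1),
      (π₀ A N).lTensor U ((d 1 0).lTensor U z) = 0 := fun {U} _ _ z =>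
    (lTensor_exact U (exact_π₀ A N) (π₀_surjective A N) _).mpr ⟨z, rfl⟩
  let ψ : W →ₗ[A] LinearMap.ker (i.rTensor N) := ((π₀ A N).lTensor X ∘ₗ a).codRestrict _ fun w => by
    rw [LinearMap.mem_ker, LinearMap.comp_apply, comm, ha, hπd]
  let φ : W →ₗ[A] LinearMap.ker ((d 1 0).lTensor Z) :=
    { toFun := fun w => ⟨p.rTensor (R.X 1) w.1, w.2⟩
      map_add' := fun v w => Subtype.ext (map_add (p.rTensor (R.X 1)) v.1 w.1)
      map_smul' := fun c w => Subtype.ext (map_smul (p.rTensor (R.X 1)) c w.1) }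
  have hφv : ∀ w, (φ w).1 = p.rTensor (R.X 1) w.1 := fun _ => rfl
  have hψ : Function.Surjective ψ := by
    rintro ⟨t, ht⟩
    obtain ⟨s, rfl⟩ := LinearMap.lTensor_surjective X (π₀_surjective A N) t
    obtain ⟨w, hw⟩ := (lTensor_exact Y (exact_π₀ A N) (π₀_surjective A N) (i.rTensor (R.X 0) s)).mp
      ((comm i (π₀ A N) s).symm.trans ht)
    have hwW : w ∈ W := by
      change (d 1 0).lTensor Z (p.rTensor (R.X 1) w) = 0
      rw [← comm, hw]
      exact (rTensor_exact (R.X 0) hip hp _).mpr ⟨s, rfl⟩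
    exact ⟨⟨w, hwW⟩, Subtype.ext (congrArg ((π₀ A N).lTensor X) (hi0 ((ha _).trans hw)))⟩
  have hφ : Function.Surjective φ := by
    rintro ⟨z, hz⟩
    obtain ⟨w, rfl⟩ := LinearMap.rTensor_surjective (R.X 1) hp z
    exact ⟨⟨w, hz⟩, rfl⟩
  have hker : LinearMap.ker ((Submodule.mkQ
      ((LinearMap.range ((d 2 1).lTensor Z)).comap (LinearMap.ker ((d 1 0).lTensor Z)).subtype)).comp φ) =
      LinearMap.ker ψ := by
    ext w
    simp only [LinearMap.mem_ker, LinearMap.comp_apply, Submodule.mkQ_apply, Submodule.Quotient.mk_eq_zero,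
      Submodule.mem_comap, Submodule.subtype_apply, LinearMap.mem_range, hφv, ψ, LinearMap.codRestrict_apply,
      ← Subtype.val_inj, ZeroMemClass.coe_zero]
    constructor
    · rintro ⟨c, hc⟩
      obtain ⟨b, rfl⟩ := LinearMap.rTensor_surjective (R.X 2) hp c
      rw [← comm, ← sub_eq_zero, ← map_sub] at hc
      obtain ⟨a₁, ha₁⟩ := (rTensor_exact (R.X 1) hip hp _).mp hc
      have : a w = -(d 1 0).lTensor X a₁ := by
        refine hi0 ?_
        rw [ha, map_neg, comm i (d 1 0), ha₁, map_sub,
          (exact_tensor_of_flat A N Y 0).apply_apply_eq_zero b]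
        simp
      rw [this, map_neg, hπd, neg_zero]
    · intro h
      obtain ⟨a₁, ha₁⟩ := (lTensor_exact X (exact_π₀ A N) (π₀_surjective A N) _).mp h
      obtain ⟨b, hb⟩ := (exact_tensor_of_flat A N Y 0 (w.1 - i.rTensor (R.X 1) a₁)).mp (by
        rw [map_sub, ← comm i (d 1 0), ha₁, ha, sub_self])
      refine ⟨p.rTensor (R.X 2) b, ?_⟩
      rw [← comm, hb, map_sub, (rTensor_exact (R.X 1) hip hp).apply_apply_eq_zero, sub_zero]
  exact ⟨(LinearMap.quotKerEquivOfSurjective ((Submodule.mkQ ((LinearMap.range ((d 2 1).lTensor Z)).comap (LinearMap.ker ((d 1 0).lTensor Z)).subtype)).comp φ) (by rw [LinearMap.coe_comp]; exact (Submodule.mkQ_surjective _).comp hφ)).symm.trans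
    ((Submodule.quotEquivOfEq _ _ hker).trans (LinearMap.quotKerEquivOfSurjective ψ hψ))⟩

end

noncomputable section

theorem nonempty_quot_equiv {A : Type u} [CommRing A] {L M M' M'' : Type u} [AddCommGroup L] [Module A L]
    [AddCommGroup M] [Module A M] [AddCommGroup M'] [Module A M'] [AddCommGroup M''] [Module A M'']
    (f : L →ₗ[A] M) (a : M →ₗ[A] M') (b : M' →ₗ[A] M'') (c : M →ₗ[A] M'')
    (hfa : Function.Exact f a) (ha : Function.Surjective a) (hc : ∀ x, c x = b (a x)) :
    Nonempty ((↥(LinearMap.ker c) ⧸ Submodule.comap (LinearMap.ker c).subtype (LinearMap.range f)) ≃ₗ[A]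
      LinearMap.ker b) := by
  let g := (a.domRestrict (LinearMap.ker c)).codRestrict (LinearMap.ker b) fun x => (hc x.1).symm.trans x.2
  have hg : Function.Surjective g := by
    rintro ⟨y, hy⟩
    obtain ⟨x, rfl⟩ := ha y
    exact ⟨⟨x, (hc x).trans hy⟩, rfl⟩
  refine ⟨(Submodule.quotEquivOfEq _ _ ?_).trans (g.quotKerEquivOfSurjective hg)⟩
  ext x
  exact ⟨fun h => Subtype.ext ((hfa x.1).mpr h), fun h => (hfa x.1).mp (congrArg Subtype.val h)⟩

/-- the four term sequence of a two-term complex of flat modules -/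
theorem two_term {A : Type u} [CommRing A] (k : Type u) [AddCommGroup k] [Module A k]
    {P₁ P₀ : Type u} [AddCommGroup P₁] [Module A P₁] [AddCommGroup P₀] [Module A P₀]
    [Module.Flat A P₁] [Module.Flat A P₀] (d : P₁ →ₗ[A] P₀) :
    Nonempty (LinearMap.ker ((LinearMap.ker d).subtype.rTensor k) ≃ₗ[A]
        DRing.Tor A 2 (P₀ ⧸ LinearMap.range d) k) ∧
      LinearMap.range ((LinearMap.ker d).subtype.rTensor k) ≤ LinearMap.ker (d.rTensor k) ∧
      Nonempty ((↥(LinearMap.ker (d.rTensor k)) ⧸
          Submodule.comap (LinearMap.ker (d.rTensor k)).subtype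
            (LinearMap.range ((LinearMap.ker d).subtype.rTensor k))) ≃ₗ[A]
        DRing.Tor A 1 (P₀ ⧸ LinearMap.range d) k) := by
  have hex : Function.Exact (LinearMap.ker d).subtype d.rangeRestrict :=
    LinearMap.exact_iff.mpr (by rw [LinearMap.ker_rangeRestrict, Submodule.range_subtype])
  obtain ⟨e₂⟩ := nonempty_tor_shift k (LinearMap.range d).subtype (LinearMap.range d).mkQ
    Subtype.val_injective (Submodule.mkQ_surjective _) (LinearMap.exact_subtype_mkQ _) 0
  obtain ⟨e₁⟩ := nonempty_tor_one_equiv_ker k (LinearMap.ker d).subtype d.rangeRestrict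
    Subtype.val_injective (LinearMap.surjective_rangeRestrict d) hex
  obtain ⟨e₀⟩ := nonempty_tor_one_equiv_ker k (LinearMap.range d).subtype (LinearMap.range d).mkQ
    Subtype.val_injective (Submodule.mkQ_surjective _) (LinearMap.exact_subtype_mkQ _)
  have hexk := rTensor_exact k hex (LinearMap.surjective_rangeRestrict d)
  have hd' : ∀ x, d.rTensor k x = (LinearMap.range d).subtype.rTensor k (d.rangeRestrict.rTensor k x) :=
    fun x => LinearMap.congr_fun (LinearMap.rTensor_comp k (LinearMap.range d).subtype d.rangeRestrict) x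
  refine ⟨⟨e₁.symm.trans e₂.symm⟩, ?_, ?_⟩
  · rintro _ ⟨y, rfl⟩
    rw [LinearMap.mem_ker, hd', hexk.apply_apply_eq_zero, map_zero]
  · obtain ⟨e₃⟩ := nonempty_quot_equiv _ _ _ _ hexk (LinearMap.rTensor_surjective k (LinearMap.surjective_rangeRestrict d)) hd'
    exact ⟨e₃.trans e₀.symm⟩

end

end Groth.Agent.FlatCx.TorLES
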