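import Groth.Agent.FlatCx.Chain
import Mathlib.RingTheory.Spectrum.Prime.FreeLocus
import Mathlib.RingTheory.LocalRing.ResidueField.Fiber
import Mathlib.RingTheory.Nilpotent.Basic
import Mathlib.RingTheory.Support
import Mathlib.Topology.Semicontinuity.Basic
import Mathlib.Topology.LocallyConstant.Basic

/-!
Fibre dimensions of finite modules and the function `dRank`.
-/

universe u

open TensorProduct Function CategoryTheory CategoryTheory.Limits

namespace Groth.Agent.FlatCx

variable {A : Type u} [CommRing A]

/-- `dim_{k(x)} (k(x) ⊗ M)`. -/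
noncomputable def fib (M : Type u) [AddCommGroup M] [Module A M] (x : PrimeSpectrum A) : ℕ :=
  Module.finrank x.asIdeal.ResidueField (x.asIdeal.ResidueField ⊗[A] M)

section Modules

variable (M : Type u) [AddCommGroup M] [Module A M]

theorem fib_eq_rankAtStalk [Module.Finite A M] [Module.Flat A M] :
    fib (A := A) M = Module.rankAtStalk (R := A) M :=
  by funext x; exact (Module.rankAtStalk_eq (R := A) (M := M) x).symm

theorem isLocallyConstant_fib [Module.FinitePresentation A M] [Module.Flat A M] :
    IsLocallyConstant (fib (A := A) M) :=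
  fib_eq_rankAtStalk (A := A) M ▸ Module.isLocallyConstant_rankAtStalk (R := A) (M := M)

theorem fib_congr {N : Type u} [AddCommGroup N] [Module A N] (e : M ≃ₗ[A] N) :
    fib (A := A) M = fib N :=
  funext fun _ => (e.baseChange A _ M N).finrank_eq

variable [Module.Finite A M]

/-- Generators of the fibre at `x` generate the nearby fibres. -/
theorem exists_open_baseChange_surjective (x : PrimeSpectrum A) :
    ∃ (φ : (Fin (fib M x) → A) →ₗ[A] M) (U : Set (PrimeSpectrum A)), IsOpen U ∧ x ∈ U ∧
      ∀ y ∈ U, Surjective (φ.baseChange y.asIdeal.ResidueField) := by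
  let k := x.asIdeal.ResidueField
  let s : Set (k ⊗[A] M) := Set.range fun m => (1 : k) ⊗ₜ[A] m
  have hs : Submodule.span k s = ⊤ := by
    rw [eq_top_iff]
    rintro z -
    induction z using TensorProduct.induction_on with
    | zero => exact zero_mem _
    | tmul a m =>
      rw [show a ⊗ₜ[A] m = a • ((1 : k) ⊗ₜ[A] m) by rw [smul_tmul', smul_eq_mul, mul_one]]
      exact Submodule.smul_mem _ _ (Submodule.subset_span ⟨m, rfl⟩)
    | add a b ha hb => exact add_mem ha hb
  obtain ⟨f, hfs, hf, -⟩ := Submodule.exists_fun_fin_finrank_span_eq k s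
  have hn : Module.finrank k (Submodule.span k s) = fib M x := by rw [hs, finrank_top]; rfl
  choose m hm using hfs
  let φ : (Fin (fib M x) → A) →ₗ[A] M := Fintype.linearCombination A fun i => m (Fin.cast hn.symm i)
  have hex : Exact φ (LinearMap.range φ).mkQ := φ.exact_map_mkQ_range
  have key : ∀ (y : PrimeSpectrum A), y ∉ Module.support A (M ⧸ LinearMap.range φ) →
      Surjective (φ.baseChange y.asIdeal.ResidueField) := by
    intro y hy
    rw [Module.mem_support_iff_nontrivial_residueField_tensorProduct, not_nontrivial_iff_subsingleton] at hy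
    intro z
    exact (lTensor_exact y.asIdeal.ResidueField hex (Submodule.mkQ_surjective _) z).mp
      (Subsingleton.elim _ _)
  refine ⟨φ, (Module.support A (M ⧸ LinearMap.range φ))ᶜ,
    Module.isClosed_support.isOpen_compl, ?_, key⟩
  rw [Set.mem_compl_iff, Module.mem_support_iff_nontrivial_residueField_tensorProduct,
    not_nontrivial_iff_subsingleton]
  have hsub : ∀ w : k ⊗[A] M, ((LinearMap.range φ).mkQ.baseChange k) w = 0 := by
    intro w
    have hw : w ∈ Submodule.span k (Set.range f) := by rw [hf, hs]; trivial
    induction hw using Submodule.span_induction with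
    | mem z hz =>
      obtain ⟨i, rfl⟩ := hz
      rw [← hm i, LinearMap.baseChange_tmul]
      suffices (LinearMap.range φ).mkQ (m i) = 0 by rw [this, tmul_zero]
      refine (Submodule.Quotient.mk_eq_zero _).mpr ⟨Pi.single (Fin.cast hn i) 1, ?_⟩
      simp [φ, Fintype.linearCombination_apply_single]
    | zero => exact map_zero _
    | add a b _ _ ha hb => rw [map_add, ha, hb, add_zero]
    | smul c a _ ha => rw [map_smul, ha, smul_zero]
  constructor
  intro a b
  obtain ⟨a', rfl⟩ := LinearMap.lTensor_surjective k (Submodule.mkQ_surjective _) a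
  obtain ⟨b', rfl⟩ := LinearMap.lTensor_surjective k (Submodule.mkQ_surjective _) b
  exact (hsub a').trans (hsub b').symm

theorem fib_le_eventually (x : PrimeSpectrum A) : ∀ᶠ y in nhds x, fib M y ≤ fib M x := by
  obtain ⟨φ, U, hU, hx, h⟩ := exists_open_baseChange_surjective M x
  filter_upwards [hU.mem_nhds hx] with y hy
  have : Nontrivial A := (algebraMap A y.asIdeal.ResidueField).domain_nontrivial
  calc fib M y = Module.finrank _ (LinearMap.range (φ.baseChange y.asIdeal.ResidueField)) := by
        rw [LinearMap.range_eq_top.mpr (h y hy), finrank_top]; rfl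
    _ ≤ Module.finrank y.asIdeal.ResidueField (y.asIdeal.ResidueField ⊗[A] (Fin (fib M x) → A)) :=
        LinearMap.finrank_range_le _
    _ = fib M x := by rw [Module.finrank_baseChange, Module.finrank_pi]; simp

theorem fib_le_closedPoint [IsLocalRing A] (y : PrimeSpectrum A) :
    fib M y ≤ fib M (IsLocalRing.closedPoint A) := by
  obtain ⟨U, hU, hUo, hx⟩ := eventually_nhds_iff.mp (fib_le_eventually M (IsLocalRing.closedPoint A))
  apply hU
  exact ((IsLocalRing.specializes_closedPoint y).mem_open hUo hx)

/-- Over a reduced local ring, constant fibre dimension at the minimal primes and the closed point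
forces freeness. -/
theorem free_of_fib_eq_minimalPrimes [IsLocalRing A] [IsReduced A]
    (h : ∀ q : PrimeSpectrum A, q.asIdeal ∈ minimalPrimes A →
      fib M q = fib M (IsLocalRing.closedPoint A)) : Module.Free A M := by
  obtain ⟨φ, U, hUo, hx, hU⟩ := exists_open_baseChange_surjective M (IsLocalRing.closedPoint A)
  have hall : ∀ y, y ∈ U := fun y => (IsLocalRing.specializes_closedPoint y).mem_open hUo hx
  have hsurj : Surjective φ := by
    rw [← LinearMap.range_eq_top, ← Submodule.Quotient.subsingleton_iff,
      ← Module.support_eq_empty_iff (R := A), Set.eq_empty_iff_forall_notMem]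
    intro y
    rw [Module.mem_support_iff_nontrivial_residueField_tensorProduct, not_nontrivial_iff_subsingleton]
    constructor
    intro a b
    obtain ⟨a', rfl⟩ := LinearMap.lTensor_surjective y.asIdeal.ResidueField (Submodule.mkQ_surjective _) a
    obtain ⟨b', rfl⟩ := LinearMap.lTensor_surjective y.asIdeal.ResidueField (Submodule.mkQ_surjective _) b
    have h0 : ∀ w, (LinearMap.range φ).mkQ.lTensor y.asIdeal.ResidueField w = 0 := fun w => by
      obtain ⟨v, rfl⟩ := hU y (hall y) w
      exact (lTensor_exact y.asIdeal.ResidueField φ.exact_map_mkQ_range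
        (Submodule.mkQ_surjective _)).apply_apply_eq_zero v
    rw [h0, h0]
  refine Module.Free.of_equiv (LinearEquiv.ofBijective φ ⟨?_, hsurj⟩)
  rw [injective_iff_map_eq_zero]
  intro r hr
  ext i
  apply IsReduced.eq_zero
  rw [← mem_nilradical, nilradical, Ideal.zero_eq_bot, ← Ideal.sInf_minimalPrimes]
  exact Submodule.mem_sInf.mpr fun q hq => by
    obtain ⟨x, rfl⟩ : ∃ x : PrimeSpectrum A, x.asIdeal = q := ⟨⟨q, hq.1.1⟩, rfl⟩
    have hd : Module.finrank x.asIdeal.ResidueField
        (x.asIdeal.ResidueField ⊗[A] (Fin (fib M (IsLocalRing.closedPoint A)) → A)) =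
        Module.finrank x.asIdeal.ResidueField (x.asIdeal.ResidueField ⊗[A] M) := by
      rw [Module.finrank_baseChange, Module.finrank_pi, Fintype.card_fin]
      exact (h x hq).symm
    have hinj := (LinearMap.injective_iff_surjective_of_finrank_eq_finrank hd).mpr (hU x (hall x))
    have h1 : (1 : x.asIdeal.ResidueField) ⊗ₜ[A] r = 0 :=
      hinj (by rw [map_zero, LinearMap.baseChange_tmul, hr, tmul_zero])
    have h2 := congrArg ((LinearMap.proj i : (Fin _ → A) →ₗ[A] A).baseChange x.asIdeal.ResidueField) h1
    rw [map_zero, LinearMap.baseChange_tmul] at h2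
    have h3 := congrArg (TensorProduct.AlgebraTensorModule.rid A x.asIdeal.ResidueField
      x.asIdeal.ResidueField) h2
    simp only [AlgebraTensorModule.rid_tmul, map_zero, LinearMap.proj_apply] at h3
    rw [← Algebra.algebraMap_eq_smul_one, Ideal.algebraMap_residueField_eq_zero] at h3
    exact h3

end Modules

theorem map_ker_of_square {R : Type u} [CommRing R] {V V' W W' : Type u} [AddCommGroup V]
    [Module R V] [AddCommGroup V'] [Module R V'] [AddCommGroup W] [Module R W] [AddCommGroup W']
    [Module R W'] (f : V →ₗ[R] W) (g : V' →ₗ[R] W') (e₁ : V ≃ₗ[R] V') (e₂ : W ≃ₗ[R] W')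
    (h : g ∘ₗ e₁.toLinearMap = e₂.toLinearMap ∘ₗ f) :
    (LinearMap.ker f).map e₁.toLinearMap = LinearMap.ker g := by
  ext z
  rw [Submodule.mem_map_equiv, LinearMap.mem_ker, LinearMap.mem_ker, ← e₂.map_eq_zero_iff]
  have h2 := LinearMap.congr_fun h (e₁.symm z)
  simp only [LinearMap.comp_apply, LinearEquiv.coe_coe, LinearEquiv.apply_symm_apply] at h2
  rw [h2]

section Fields

variable {M N : Type u} [AddCommGroup M] [Module A M] [AddCommGroup N] [Module A N] (f : M →ₗ[A] N)
variable (K L : Type u) [Field K] [Field L] [Algebra A K] [Algebra A L] [Algebra K L]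
  [IsScalarTower A K L]

/-- Kernels of a linear map after base change to fields do not see field extensions. -/
theorem finrank_ker_baseChange :
    Module.finrank L (LinearMap.ker (f.baseChange L)) =
      Module.finrank K (LinearMap.ker (f.baseChange K)) := by
  let e := LinearMap.tensorKerEquiv L L (f.baseChange K)
  have : Module.Free K (LinearMap.ker (f.baseChange K)) := Module.Free.of_divisionRing (K := K) (V := LinearMap.ker (f.baseChange K))
  rw [← Module.finrank_baseChange (R := L) (S := K) (M' := LinearMap.ker (f.baseChange K)), e.finrank_eq]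
  refine (LinearEquiv.ofSubmodules (AlgebraTensorModule.cancelBaseChange A K L L M) _ _ ?_).finrank_eq.symm
  exact map_ker_of_square _ _ _ (AlgebraTensorModule.cancelBaseChange A K L L N)
    (AlgebraTensorModule.lTensor_comp_cancelBaseChange (R := A) (A := K) (B := L) (M := L) f)

theorem fib_eq_finrank (M : Type u) [AddCommGroup M] [Module A M]
    (x : PrimeSpectrum A) [Algebra x.asIdeal.ResidueField L]
    [IsScalarTower A x.asIdeal.ResidueField L] :
    Module.finrank L (L ⊗[A] M) = fib M x := by
  rw [← (AlgebraTensorModule.cancelBaseChange A x.asIdeal.ResidueField L L M).finrank_eq,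
    Module.finrank_baseChange]
  rfl

end Fields

section DRank

variable {ι : Type} {c : ComplexShape ι} (P : HomologicalComplex (ModuleCat.{u} A) c) (p q : ι)

theorem dRank_eq_finrank_ker (hq : c.next p = q) (x : PrimeSpectrum A) :
    CohIII.dRank P p x = Module.finrank x.asIdeal.ResidueField
      (LinearMap.ker ((bdry P p q).baseChange x.asIdeal.ResidueField)) :=
  (bcHomEquiv x.asIdeal.ResidueField P p q hq).finrank_eq

/-- `d_p + rk P_q = fib C_p + fib C_q`. -/
theorem dRank_add (hq : c.next p = q) (hp : c.prev q = p) [Module.Finite A (P.X p)]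
    [Module.Finite A (P.X q)] (x : PrimeSpectrum A) :
    CohIII.dRank P p x + fib (P.X q) x = fib (P.opcycles p) x + fib (P.opcycles q) x := by
  rw [dRank_eq_finrank_ker P p q hq]
  have h1 := LinearMap.finrank_range_add_finrank_ker ((bdry P p q).baseChange x.asIdeal.ResidueField)
  have h2 := LinearMap.finrank_range_add_finrank_ker
    ((P.pOpcycles q).hom.baseChange x.asIdeal.ResidueField)
  have hex : Exact ((bdry P p q).baseChange x.asIdeal.ResidueField)
      ((P.pOpcycles q).hom.baseChange x.asIdeal.ResidueField) :=
    lTensor_exact x.asIdeal.ResidueField (exact_fromOpcycles_pOpcycles P p q hp)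
      (pOpcycles_surjective P q)
  have h3 := (LinearMap.exact_iff.mp hex).symm
  have h4 : LinearMap.range ((P.pOpcycles q).hom.baseChange x.asIdeal.ResidueField) = ⊤ :=
    LinearMap.range_eq_top.mpr
      (LinearMap.baseChange_surjective x.asIdeal.ResidueField (pOpcycles_surjective P q))
  rw [h3] at h1
  rw [h4, finrank_top] at h2
  unfold fib
  omega

variable {B : Type u} [CommRing B] [Algebra A B]

theorem bdry_bc (z : ↥((CohIII.bcCx (algebraMap A B) P).opcycles p)) :
    extEquiv (P.X q) (bdry (CohIII.bcCx (algebraMap A B) P) p q z) =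
      (bdry P p q).baseChange B (bcOpcyclesEquiv P p z) :=
  (congrArg (extEquiv (P.X q)) (ConcreteCategory.congr_hom
    (ocMap_fromOpcycles (ModuleCat.extendScalars (algebraMap A B)) P p q) z).symm).trans
      (extEquiv_natural _ _)

theorem dRank_bc (x' : PrimeSpectrum B) :
    CohIII.dRank (CohIII.bcCx (algebraMap A B) P) p x' =
      CohIII.dRank P p (PrimeSpectrum.comap (algebraMap A B) x') := by
  set x := PrimeSpectrum.comap (algebraMap A B) x'
  let K := x.asIdeal.ResidueField
  let L := x'.asIdeal.ResidueField
  let : Algebra K L := (Ideal.ResidueField.map x.asIdeal x'.asIdeal (algebraMap A B) rfl).toAlgebra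
  have : IsScalarTower A K L := .of_algebraMap_eq fun a => by
    rw [RingHom.algebraMap_toAlgebra, Ideal.ResidueField.map_algebraMap,
      ← IsScalarTower.algebraMap_apply]
  rw [dRank_eq_finrank_ker _ p _ rfl, dRank_eq_finrank_ker P p _ rfl,
    ← finrank_ker_baseChange (bdry P p (c.next p)) K L]
  refine (LinearEquiv.ofSubmodules
    ((bcOpcyclesEquiv P p).baseChange B L _ _ ≪≫ₗ AlgebraTensorModule.cancelBaseChange A B L L _) _ _ ?_).finrank_eq
  have hcomm : (bdry P p (c.next p)).baseChange L ∘ₗ
      ((bcOpcyclesEquiv P p).baseChange B L _ _ ≪≫ₗ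
        AlgebraTensorModule.cancelBaseChange A B L L _).toLinearMap =
      ((extEquiv (B := B) (P.X (c.next p))).baseChange B L _ _ ≪≫ₗ
        AlgebraTensorModule.cancelBaseChange A B L L _).toLinearMap ∘ₗ
        (bdry (CohIII.bcCx (algebraMap A B) P) p (c.next p)).baseChange L := by
    apply AlgebraTensorModule.ext
    intro l z
    change (bdry P p (c.next p)).baseChange L
        (AlgebraTensorModule.cancelBaseChange A B L L _ (l ⊗ₜ[B] bcOpcyclesEquiv P p z)) =
      AlgebraTensorModule.cancelBaseChange A B L L _
        (l ⊗ₜ[B] extEquiv (P.X (c.next p)) (bdry (CohIII.bcCx (algebraMap A B) P) p (c.next p) z))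
    rw [bdry_bc]
    generalize bcOpcyclesEquiv P p z = w
    induction w using TensorProduct.induction_on with
    | zero => simp
    | tmul b m => simp
    | add a b ha hb => simp only [tmul_add, map_add, ha, hb]
  exact map_ker_of_square _ _ _ _ hcomm

end DRank

section DRankChain

variable (P : ChainComplex (ModuleCat.{u} A) ℤ) (p q : ℤ) (hpq : q + 1 = p)

include hpq in
theorem dRank_eq_fib_homology [Module.Flat A (P.X q)] [Module.Flat A (P.opcycles q)] :
    CohIII.dRank P p = fib (P.homology p) := by
  funext x
  rw [dRank_eq_finrank_ker P p q (down_next hpq), fib_congr _ (homEquivKer P p q (down_next hpq))]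
  let k := x.asIdeal.ResidueField
  have hex := exact_bdry P p q hpq
  have hπ := pOpcycles_surjective P q
  have h1 : Exact ((LinearMap.ker (bdry P p q)).subtype.baseChange k) ((bdry P p q).baseChange k) :=
    (LinearMap.rTensor_exact_iff_lTensor_exact (Q := k)).mp (exact_ker_rTensor hex hπ k)
  have h2 : Injective ((LinearMap.ker (bdry P p q)).subtype.baseChange k) :=
    (LinearMap.lTensor_inj_iff_rTensor_inj _ _).mpr (ker_rTensor_subtype_injective hex hπ k)
  rw [LinearMap.exact_iff.mp h1, LinearMap.finrank_range_of_inj h2]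
  rfl

end DRankChain

end Groth.Agent.FlatCx
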