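import Groth.Prelude.Def_ega3
import Mathlib.Algebra.Module.LocalizedModule.Basic
import Mathlib.CategoryTheory.Limits.ConcreteCategory.Filtered
import Mathlib.Algebra.Category.ModuleCat.FilteredColimits
import Mathlib.RingTheory.LocalProperties.Exactness

/-!
Linear functors commuting with filtered colimits commute with localization.
-/

universe u

open CategoryTheory CategoryTheory.Limits Function

namespace Groth.Agent.FlatCx

variable {A : Type u} [CommRing A]

/-- The category of denominators: objects are elements of `S`, a morphism `s → u` is `t` with `s * t = u`. -/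
structure Denom (S : Submonoid A) : Type u where
  /-- the element -/
  val : S

namespace Denom

variable {S : Submonoid A}

instance : Category.{u} (Denom S) where
  Hom s u := {t : S // s.val * t = u.val}
  id s := ⟨1, mul_one _⟩
  comp {s u v} f g := ⟨f.1 * g.1, by rw [← mul_assoc, f.2, g.2]⟩
  id_comp f := Subtype.ext (one_mul _)
  comp_id f := Subtype.ext (mul_one _)
  assoc f g h := Subtype.ext (mul_assoc _ _ _)

instance : IsFiltered (Denom S) where
  nonempty := ⟨⟨1⟩⟩
  cocone_objs s u := ⟨⟨s.val * u.val⟩, ⟨u.val, rfl⟩, ⟨s.val, mul_comm _ _⟩, trivial⟩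
  cocone_maps s u f g := ⟨⟨u.val * s.val⟩, ⟨s.val, rfl⟩, Subtype.ext (by
    show f.1 * s.val = g.1 * s.val
    rw [mul_comm f.1, mul_comm g.1, f.2, g.2])⟩

theorem smul_id_hom {X : ModuleCat.{u} A} (a : A) (x : X) : (a • 𝟙 X : X ⟶ X).hom x = a • x := rfl

variable (S) (M : ModuleCat.{u} A)

/-- The diagram `M → M → ⋯` of multiplications. -/
noncomputable def diagram : Denom S ⥤ ModuleCat.{u} A where
  obj _ := M
  map f := (f.1 : A) • 𝟙 M
  map_id s := by
    show ((1 : S) : A) • 𝟙 M = 𝟙 M
    rw [Submonoid.coe_one, one_smul]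
  map_comp f g := by
    show ((f.1 * g.1 : S) : A) • 𝟙 M = ((f.1 : A) • 𝟙 M) ≫ ((g.1 : A) • 𝟙 M)
    rw [Linear.smul_comp, Category.id_comp, smul_smul, Submonoid.coe_mul]

/-- `m ↦ m / s`. -/
noncomputable def mkDiv (s : S) : ↥M →ₗ[A] LocalizedModule S M where
  toFun m := LocalizedModule.mk m s
  map_add' x y := by
    rw [LocalizedModule.mk_add_mk, LocalizedModule.mk_eq]
    refine ⟨1, ?_⟩
    simp only [one_smul, smul_add, mul_smul, Submonoid.smul_def]
  map_smul' a x := by rw [LocalizedModule.smul'_mk]; rfl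

/-- The cocone with vertex the localization. -/
noncomputable def cocone : Cocone (diagram S M) where
  pt := ModuleCat.of A (LocalizedModule S M)
  ι :=
    { app := fun s => ModuleCat.ofHom (mkDiv S M s.val)
      naturality := fun s u f => by
        apply ModuleCat.hom_ext
        refine LinearMap.ext fun m => ?_
        show LocalizedModule.mk ((f.1 : A) • m) u.val = LocalizedModule.mk m s.val
        rw [LocalizedModule.mk_eq]
        refine ⟨1, ?_⟩
        simp only [one_smul, Submonoid.smul_def]
        rw [smul_smul, ← Submonoid.coe_mul, f.2] }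

theorem desc_wd (c : Cocone (diagram S M)) (p q : ↥M × S) (hpq : p ≈ q) :
    (c.ι.app ⟨p.2⟩).hom p.1 = (c.ι.app ⟨q.2⟩).hom q.1 := by
  obtain ⟨w, hw⟩ := hpq
  have h1 := ConcreteCategory.congr_hom
    (c.w (j' := ⟨p.2⟩) (j := ⟨p.2 * (w * q.2)⟩) ⟨w * q.2, rfl⟩) p.1
  have h2 := ConcreteCategory.congr_hom
    (c.w (j' := ⟨q.2⟩) (j := ⟨p.2 * (w * q.2)⟩) ⟨w * p.2, by
      rw [mul_left_comm, mul_left_comm p.2, mul_comm p.2]⟩) q.1
  refine h1.symm.trans (Eq.trans ?_ h2)
  show (c.ι.app _).hom (((w * q.2 : S) : A) • p.1) = (c.ι.app _).hom (((w * p.2 : S) : A) • q.1)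
  congr 1
  simp only [Submonoid.smul_def] at hw
  rw [Submonoid.coe_mul, Submonoid.coe_mul, mul_smul, mul_smul, hw]

/-- The localization is the colimit of the multiplications. -/
noncomputable def isColimit : IsColimit (cocone S M) where
  desc c := ModuleCat.ofHom
    { toFun := fun x => LocalizedModule.liftOn x (fun p => (c.ι.app ⟨p.2⟩).hom p.1) (desc_wd S M c)
      map_add' := fun x y => by
        induction x using LocalizedModule.induction_on with
        | h m s =>
          induction y using LocalizedModule.induction_on with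
          | h n t =>
            rw [LocalizedModule.mk_add_mk, LocalizedModule.liftOn_mk, LocalizedModule.liftOn_mk,
              LocalizedModule.liftOn_mk]
            refine (map_add (c.ι.app ⟨s * t⟩).hom _ _).trans ?_
            exact congrArg₂ (· + ·)
              (ConcreteCategory.congr_hom (c.w (j' := ⟨s⟩) (j := ⟨s * t⟩) ⟨t, rfl⟩) m)
              (ConcreteCategory.congr_hom (c.w (j' := ⟨t⟩) (j := ⟨s * t⟩) ⟨s, mul_comm t s⟩) n)
      map_smul' := fun a x => by
        induction x using LocalizedModule.induction_on with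
        | h m s =>
          rw [LocalizedModule.smul'_mk, LocalizedModule.liftOn_mk, LocalizedModule.liftOn_mk]
          exact map_smul (c.ι.app ⟨s⟩).hom a m }
  fac c j := by
    apply ModuleCat.hom_ext
    refine LinearMap.ext fun m => ?_
    rfl
  uniq c f hf := by
    apply ModuleCat.hom_ext
    refine LinearMap.ext fun x => ?_
    induction x using LocalizedModule.induction_on with
    | h m s => exact ConcreteCategory.congr_hom (hf ⟨s⟩) m

end Denom

theorem isLocalizedModule_map (T : ModuleCat.{u} A ⥤ ModuleCat.{u} A) [T.Additive] [T.Linear A]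
    (hT : ∀ (J : Type u) [SmallCategory J] [IsFiltered J], PreservesColimitsOfShape J T)
    (S : Submonoid A) (M : ModuleCat.{u} A) :
    IsLocalizedModule S (T.map (ModuleCat.ofHom (LocalizedModule.mkLinearMap S M) :
      M ⟶ ModuleCat.of A (LocalizedModule S M))).hom := by
  have := hT (Denom S)
  let c := T.mapCocone (Denom.cocone S M)
  have hc : IsColimit c := isColimitOfPreserves T (Denom.isColimit S M)
  let ι₀ := T.map (ModuleCat.ofHom (LocalizedModule.mkLinearMap S M) :
      M ⟶ ModuleCat.of A (LocalizedModule S M))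
  have hι : ι₀ = c.ι.app ⟨1⟩ := rfl
  have hmap : ∀ {s u : Denom S} (f : s ⟶ u) (y : ↥(T.obj M)),
      ((Denom.diagram S M ⋙ T).map f).hom y = (f.1 : A) • y := by
    intro s u f y
    show (T.map ((f.1 : A) • 𝟙 M)).hom y = _
    rw [T.map_smul, T.map_id]
    rfl
  have hmult : ∀ (s : S) (y : ↥(T.obj M)), (s : A) • (c.ι.app ⟨s⟩).hom y = ι₀.hom y := by
    intro s y
    rw [hι, ← map_smul]
    have h := ConcreteCategory.congr_hom (c.w (j' := ⟨1⟩) (j := ⟨s⟩) ⟨s, one_mul s⟩) y
    refine Eq.trans ?_ h
    exact congrArg (c.ι.app ⟨s⟩).hom (hmap (s := ⟨1⟩) (u := ⟨s⟩) ⟨s, one_mul s⟩ y).symm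
  refine ⟨fun s => ?_, fun x => ?_, fun {x y} hxy => ?_⟩
  · rw [Module.End.isUnit_iff]
    let e : ModuleCat.of A (LocalizedModule S M) ⟶ ModuleCat.of A (LocalizedModule S M) :=
      (s : A) • 𝟙 _
    have hb : IsIso e := by
      rw [ConcreteCategory.isIso_iff_bijective]
      exact (Module.End.isUnit_iff _).mp
        (IsLocalizedModule.map_units (LocalizedModule.mkLinearMap S ↥M) s)
    have hTe : T.map e = (s : A) • 𝟙 _ := by rw [T.map_smul, T.map_id]
    have := (ConcreteCategory.isIso_iff_bijective _).mp (inferInstance : IsIso (T.map e))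
    rw [hTe] at this
    exact this
  · obtain ⟨⟨s⟩, y, rfl⟩ := Concrete.isColimit_exists_rep _ hc x
    exact ⟨(y, s), hmult s y⟩
  · obtain ⟨⟨k⟩, f, g, hfg⟩ :=
      (Concrete.isColimit_rep_eq_iff_exists _ hc (i := (⟨1⟩ : Denom S)) (j := (⟨1⟩ : Denom S)) x y).mp hxy
    refine ⟨k, ?_⟩
    have hf : f.1 = k := by simpa using f.2
    have hg : g.1 = k := by simpa using g.2
    have e1 := (hmap f x).symm.trans ((hfg).trans (hmap g y))
    rw [hf, hg] at e1
    exact e1

end Groth.Agent.FlatCx
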