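import Groth.Agent.FlatCx.LocColim
import Mathlib.Algebra.Homology.ShortComplex.ExactFunctor
import Mathlib.Algebra.Module.LocalizedModule.Exact
import Mathlib.Algebra.Category.ModuleCat.EpiMono

/-!
Exactness of linear functors commuting with filtered colimits is local at maximal ideals.
-/

universe u

open CategoryTheory CategoryTheory.Limits Function

namespace Groth.Agent.FlatCx

variable {A : Type u} [CommRing A]

section

variable (S : Submonoid A)

/-- The localization of a short complex. -/
noncomputable def locSC (X : ShortComplex (ModuleCat.{u} A)) :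
    ShortComplex (ModuleCat.{u} (Localization S)) :=
  ShortComplex.mk (X₁ := ModuleCat.of _ (LocalizedModule S X.X₁))
    (X₂ := ModuleCat.of _ (LocalizedModule S X.X₂)) (X₃ := ModuleCat.of _ (LocalizedModule S X.X₃))
    (ModuleCat.ofHom (LocalizedModule.map S X.f.hom)) (ModuleCat.ofHom (LocalizedModule.map S X.g.hom))
    (ModuleCat.hom_ext (LinearMap.ext fun x => by
      induction x using LocalizedModule.induction_on with
      | h m s =>
        show LocalizedModule.map S X.g.hom (LocalizedModule.map S X.f.hom (LocalizedModule.mk m s)) = 0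
        rw [LocalizedModule.map_mk, LocalizedModule.map_mk, ← LinearMap.comp_apply, ← ModuleCat.hom_comp,
          X.zero, ModuleCat.hom_zero, LinearMap.zero_apply, LocalizedModule.zero_mk]))

theorem locSC_shortExact (X : ShortComplex (ModuleCat.{u} A)) (hX : X.ShortExact) :
    (locSC S X).ShortExact := by
  refine ModuleCat.shortComplex_shortExact _ ?_ ?_ ?_
  · exact LocalizedModule.map_exact S _ _
      ((ShortComplex.ShortExact.moduleCat_exact_iff_function_exact X).mp hX.exact)
  · exact LocalizedModule.map_injective S _ hX.moduleCat_injective_f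
  · exact LocalizedModule.map_surjective S _ ((ModuleCat.epi_iff_surjective X.g).mp hX.epi_g)

/-- Restricting a localized module gives the localized module. -/
noncomputable def resIso (M : Type u) [AddCommGroup M] [Module A M] :
    (ModuleCat.restrictScalars (algebraMap A (Localization S))).obj
        (ModuleCat.of (Localization S) (LocalizedModule S M)) ≅
      ModuleCat.of A (LocalizedModule S M) where
  hom := ModuleCat.ofHom (X := ((ModuleCat.restrictScalars (algebraMap A (Localization S))).obj
        (ModuleCat.of (Localization S) (LocalizedModule S M)) : ModuleCat.{u} A))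
    { toFun := fun x => (x : LocalizedModule S M)
      map_add' := fun _ _ => rfl
      map_smul' := fun a (x : LocalizedModule S M) => algebraMap_smul (Localization S) a x }
  inv := ModuleCat.ofHom (Y := ((ModuleCat.restrictScalars (algebraMap A (Localization S))).obj
        (ModuleCat.of (Localization S) (LocalizedModule S M)) : ModuleCat.{u} A))
    { toFun := fun x => (x : LocalizedModule S M)
      map_add' := fun _ _ => rfl
      map_smul' := fun a (x : LocalizedModule S M) => (algebraMap_smul (Localization S) a x).symm }

variable (T : ModuleCat.{u} A ⥤ ModuleCat.{u} A) [T.Additive] [T.Linear A]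
  (hT : ∀ (J : Type u) [SmallCategory J] [IsFiltered J], PreservesColimitsOfShape J T)

/-- `T M → T (S⁻¹ M)` in the form with restriction of scalars. -/
noncomputable def locT (M : ModuleCat.{u} A) :
    ↥(T.obj M) →ₗ[A] ↥((ModuleCat.restrictScalars (algebraMap A (Localization S)) ⋙ T).obj
      (ModuleCat.of (Localization S) (LocalizedModule S M))) :=
  (T.map ((ModuleCat.ofHom (LocalizedModule.mkLinearMap S M) :
    M ⟶ ModuleCat.of A (LocalizedModule S M)) ≫ (resIso S M).inv)).hom

include hT in
theorem isLocalizedModule_locT (M : ModuleCat.{u} A) : IsLocalizedModule S (locT S T M) := by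
  have := isLocalizedModule_map T hT S M
  have h : locT S T M = (T.mapIso (resIso S M).symm).toLinearEquiv.toLinearMap ∘ₗ
      (T.map (ModuleCat.ofHom (LocalizedModule.mkLinearMap S M) :
        M ⟶ ModuleCat.of A (LocalizedModule S M))).hom := by
    rw [locT, T.map_comp]
    rfl
  rw [h]
  exact IsLocalizedModule.of_linearEquiv S _ _

include hT in
theorem map_locT {M N : ModuleCat.{u} A} (g : M ⟶ N) (x : _) :
    haveI := isLocalizedModule_locT S T hT M
    haveI := isLocalizedModule_locT S T hT N
    IsLocalizedModule.map S (locT S T M) (locT S T N) (T.map g).hom x =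
      ((ModuleCat.restrictScalars (algebraMap A (Localization S)) ⋙ T).map
        (ModuleCat.ofHom (LocalizedModule.map S g.hom) :
          ModuleCat.of (Localization S) (LocalizedModule S M) ⟶ ModuleCat.of _ (LocalizedModule S N))).hom x := by
  have hM := isLocalizedModule_locT S T hT M
  have hN := isLocalizedModule_locT S T hT N
  revert x
  rw [← LinearMap.ext_iff]
  refine IsLocalizedModule.ext S (locT S T M) (IsLocalizedModule.map_units (locT S T N)) ?_
  rw [IsLocalizedModule.map_comp]
  refine LinearMap.ext fun y => ?_
  have hsq : g ≫ (ModuleCat.ofHom (LocalizedModule.mkLinearMap S N) :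
      N ⟶ ModuleCat.of A (LocalizedModule S N)) ≫ (resIso S N).inv =
      ((ModuleCat.ofHom (LocalizedModule.mkLinearMap S M) :
        M ⟶ ModuleCat.of A (LocalizedModule S M)) ≫ (resIso S M).inv) ≫
        (ModuleCat.restrictScalars (algebraMap A (Localization S))).map
          (ModuleCat.ofHom (LocalizedModule.map S g.hom) :
            ModuleCat.of (Localization S) (LocalizedModule S M) ⟶ ModuleCat.of _ (LocalizedModule S N)) := by
    apply ModuleCat.hom_ext
    refine LinearMap.ext fun m => ?_
    exact (LocalizedModule.map_mk (S := S) g.hom m 1).symm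
  have := congrArg T.map hsq
  rw [T.map_comp g, T.map_comp (_ ≫ _)] at this
  exact ConcreteCategory.congr_hom this y

omit [T.Linear A] in
theorem map_comp_zero (X : ShortComplex (ModuleCat.{u} A)) (z : ↥(T.obj X.X₁)) :
    (T.map X.g).hom ((T.map X.f).hom z) = 0 :=
  ConcreteCategory.congr_hom (X.map T).zero z

include hT in
theorem exists_smul_eq_zero {M N : ModuleCat.{u} A} (g : M ⟶ N) (y : ↥(T.obj M))
    (hy : (T.map g).hom y = 0)
    (hinj : Injective ((ModuleCat.restrictScalars (algebraMap A (Localization S)) ⋙ T).map
        (ModuleCat.ofHom (LocalizedModule.map S g.hom) :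
          ModuleCat.of (Localization S) (LocalizedModule S M) ⟶ ModuleCat.of _ (LocalizedModule S N))).hom) :
    ∃ s : S, (s : A) • y = 0 := by
  have hM := isLocalizedModule_locT S T hT M
  have hN := isLocalizedModule_locT S T hT N
  have h0 : locT S T M y = locT S T M 0 := by
    apply hinj
    rw [← map_locT S T hT g, ← map_locT S T hT g, IsLocalizedModule.map_apply,
      IsLocalizedModule.map_apply, hy, map_zero, map_zero, map_zero]
  obtain ⟨s, hs⟩ := IsLocalizedModule.exists_of_eq (S := S) (f := locT S T M) h0
  exact ⟨s, by rw [Submonoid.smul_def, smul_zero] at hs; exact hs⟩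

include hT in
theorem exists_smul_mem_range {M N : ModuleCat.{u} A} (g : M ⟶ N) (y : ↥(T.obj N))
    (hsurj : Surjective ((ModuleCat.restrictScalars (algebraMap A (Localization S)) ⋙ T).map
        (ModuleCat.ofHom (LocalizedModule.map S g.hom) :
          ModuleCat.of (Localization S) (LocalizedModule S M) ⟶ ModuleCat.of _ (LocalizedModule S N))).hom) :
    ∃ s : S, (s : A) • y ∈ LinearMap.range (T.map g).hom := by
  have hM := isLocalizedModule_locT S T hT M
  have hN := isLocalizedModule_locT S T hT N
  obtain ⟨w, hw⟩ := hsurj (locT S T N y)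
  obtain ⟨⟨x, s⟩, hx⟩ := IsLocalizedModule.surj S (locT S T M) w
  have h2 : locT S T N ((T.map g).hom x) = locT S T N ((s : A) • y) := by
    rw [← IsLocalizedModule.map_apply S (locT S T M) (locT S T N), ← hx, Submonoid.smul_def,
      map_smul, map_locT S T hT g, hw, map_smul]
  obtain ⟨u, hu⟩ := IsLocalizedModule.exists_of_eq (S := S) (f := locT S T N) h2
  refine ⟨u * s, ⟨(u : A) • x, ?_⟩⟩
  rw [map_smul, Submonoid.coe_mul, mul_smul]
  exact hu

include hT in
theorem exists_smul_mem (X : ShortComplex (ModuleCat.{u} A)) (y : ↥(T.obj X.X₂))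
    (hy : (T.map X.g).hom y = 0)
    (hex : Exact ((ModuleCat.restrictScalars (algebraMap A (Localization S)) ⋙ T).map (locSC S X).f).hom
      ((ModuleCat.restrictScalars (algebraMap A (Localization S)) ⋙ T).map (locSC S X).g).hom) :
    ∃ s : S, (s : A) • y ∈ LinearMap.range (T.map X.f).hom := by
  have hM := isLocalizedModule_locT S T hT X.X₁
  have hN := isLocalizedModule_locT S T hT X.X₂
  have hL := isLocalizedModule_locT S T hT X.X₃
  obtain ⟨w, hw⟩ := (hex (locT S T X.X₂ y)).mp ((map_locT S T hT X.g (locT S T X.X₂ y)).symm.trans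
    (by rw [IsLocalizedModule.map_apply, hy, map_zero]; rfl))
  obtain ⟨⟨x, s⟩, hx⟩ := IsLocalizedModule.surj S (locT S T X.X₁) w
  have h2 : locT S T X.X₂ ((T.map X.f).hom x) = locT S T X.X₂ ((s : A) • y) := by
    rw [← IsLocalizedModule.map_apply S (locT S T X.X₁) (locT S T X.X₂), ← hx, Submonoid.smul_def,
      map_smul, map_smul]
    exact congrArg _ ((map_locT S T hT X.f w).trans hw)
  obtain ⟨u, hu⟩ := IsLocalizedModule.exists_of_eq (S := S) (f := locT S T X.X₂) h2
  refine ⟨u * s, ⟨(u : A) • x, ?_⟩⟩
  rw [map_smul, Submonoid.coe_mul, mul_smul]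
  exact hu

end

theorem mem_of_locally_mem {M : Type u} [AddCommGroup M] [Module A M] (N : Submodule A M) (x : M)
    (h : ∀ (m : Ideal A) [m.IsMaximal], ∃ s : m.primeCompl, (s : A) • x ∈ N) : x ∈ N := by
  let I : Ideal A := N.comap (LinearMap.toSpanSingleton A M x)
  have hI : I = ⊤ := by
    by_contra hne
    obtain ⟨m, hm, hle⟩ := Ideal.exists_le_maximal I hne
    obtain ⟨s, hs⟩ := h m
    exact s.2 (hle hs)
  have h1 : (1 : A) ∈ I := hI ▸ Submodule.mem_top
  have h2 : (1 : A) • x ∈ N := h1
  simpa using h2

variable (T : ModuleCat.{u} A ⥤ ModuleCat.{u} A) [T.Additive] [T.Linear A]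
  (hT : ∀ (J : Type u) [SmallCategory J] [IsFiltered J], PreservesColimitsOfShape J T)

include hT in
theorem preservesFiniteLimits_local (h : ∀ (m : Ideal A) [m.IsMaximal],
    PreservesFiniteLimits (ModuleCat.restrictScalars (algebraMap A (Localization.AtPrime m)) ⋙ T)) :
    PreservesFiniteLimits T := by
  refine ((Functor.preservesFiniteLimits_tfae T).out 3 0 :).mpr fun X hX => ?_
  have key : ∀ (m : Ideal A) [m.IsMaximal],
      ((locSC m.primeCompl X).map (ModuleCat.restrictScalars (algebraMap A (Localization m.primeCompl)) ⋙ T)).Exact ∧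
        Mono ((ModuleCat.restrictScalars (algebraMap A (Localization m.primeCompl)) ⋙ T).map
          (locSC m.primeCompl X).f) := fun m _ =>
    ((Functor.preservesFiniteLimits_tfae (ModuleCat.restrictScalars (algebraMap A (Localization m.primeCompl)) ⋙ T)).out 3 0 :).mp (h m) _ (locSC_shortExact _ X hX)
  constructor
  · refine (ShortComplex.ShortExact.moduleCat_exact_iff_function_exact _).mpr ?_
    intro y
    refine ⟨fun hy => mem_of_locally_mem (LinearMap.range (T.map X.f).hom) y fun m _ => ?_, fun ⟨z, hz⟩ => ?_⟩
    · exact exists_smul_mem m.primeCompl T hT X y hy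
        ((ShortComplex.ShortExact.moduleCat_exact_iff_function_exact _).mp (key m).1)
    · rw [← hz]
      exact map_comp_zero T X z
  · rw [ModuleCat.mono_iff_injective, injective_iff_map_eq_zero]
    intro y hy
    refine (Submodule.mem_bot A).mp (mem_of_locally_mem ⊥ y fun m _ => ?_)
    obtain ⟨s, hs⟩ := exists_smul_eq_zero m.primeCompl T hT X.f y hy
      ((ModuleCat.mono_iff_injective _).mp (key m).2)
    exact ⟨s, (Submodule.mem_bot A).mpr hs⟩

include hT in
theorem preservesFiniteColimits_local (h : ∀ (m : Ideal A) [m.IsMaximal],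
    PreservesFiniteColimits (ModuleCat.restrictScalars (algebraMap A (Localization.AtPrime m)) ⋙ T)) :
    PreservesFiniteColimits T := by
  refine ((Functor.preservesFiniteColimits_tfae T).out 3 0 :).mpr fun X hX => ?_
  have key : ∀ (m : Ideal A) [m.IsMaximal],
      ((locSC m.primeCompl X).map (ModuleCat.restrictScalars (algebraMap A (Localization m.primeCompl)) ⋙ T)).Exact ∧
        Epi ((ModuleCat.restrictScalars (algebraMap A (Localization m.primeCompl)) ⋙ T).map
          (locSC m.primeCompl X).g) := fun m _ =>
    ((Functor.preservesFiniteColimits_tfae (ModuleCat.restrictScalars (algebraMap A (Localization m.primeCompl)) ⋙ T)).out 3 0 :).mp (h m) _ (locSC_shortExact _ X hX)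
  constructor
  · refine (ShortComplex.ShortExact.moduleCat_exact_iff_function_exact _).mpr ?_
    intro y
    refine ⟨fun hy => mem_of_locally_mem (LinearMap.range (T.map X.f).hom) y fun m _ => ?_, fun ⟨z, hz⟩ => ?_⟩
    · exact exists_smul_mem m.primeCompl T hT X y hy
        ((ShortComplex.ShortExact.moduleCat_exact_iff_function_exact _).mp (key m).1)
    · rw [← hz]
      exact map_comp_zero T X z
  · rw [ModuleCat.epi_iff_surjective]
    intro y
    refine mem_of_locally_mem (LinearMap.range (T.map X.g).hom) y fun m _ => ?_
    exact exists_smul_mem_range m.primeCompl T hT X.g y ((ModuleCat.epi_iff_surjective _).mp (key m).2)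

end Groth.Agent.FlatCx
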